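import Groth.Agent.ConsPropLib.LociMod
import Groth.Agent.ConsPropLib.CoreProper
import Groth.Agent.ConsPropLib.FibreLocFreeRank
import Groth.Agent.KFlatLib.Perfect.LocFree
import Groth.Agent.BertiniSec.Scheme
import Groth.Agent.H23.PicInv
import Groth.Agent.InvX.Tensor
import Groth.Agent.H23.PicMul
import Groth.Agent.PicClLib.Basic
import Groth.Agent.LimMod.Iso
import Groth.Agent.ConsPropLib.NoethApprox
import Groth.Agent.QCoh.TensorSections

/-!
# Noetherian models of proper morphisms with a module and an invertible module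
-/

set_option autoImplicit false
set_option linter.style.haveILetI false
set_option backward.isDefEq.respectTransparency false
set_option backward.isDefEq.respectTransparency.types false
set_option maxHeartbeats 1000000
set_option synthInstance.maxHeartbeats 400000

open CategoryTheory CategoryTheory.Limits AlgebraicGeometry TopologicalSpace
open Groth.Agent.SpecLib Groth.Agent.EGA41Lib Groth.Agent.MorLib Groth.Agent.MorLib.Desc Groth.Agent.ConsPropLib
open MonoidalCategory
open scoped TensorProduct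

universe u

noncomputable section

namespace Groth.Agent.HilbSnap

open Groth.Agent

variable {X : Scheme.{u}}

/-- A module of finite presentation with a tensor inverse is invertible. -/
theorem isInvertible_of_tensor_inverse {L D : X.Modules} (hL : CohB1.IsFP L)
    (e : CohB1.tensorMod L D ≅ Coh.structureModule X) : PicF.IsInvertible L := by
  have key : ∀ x : X, Module.Free (X.presheaf.stalk x) (L.presheaf.stalk x) ∧
      Module.finrank (X.presheaf.stalk x) (L.presheaf.stalk x) = 1 := fun x => by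
    let F := DerSch.stalkFunctor X x
    let i : F.obj L ⊗ F.obj D ≅ F.obj (Coh.structureModule X) := KFlatLib.stalkTensorIso x L D ≪≫ F.mapIso e
    let o : (F.obj (Coh.structureModule X) : Type u) ≃ₗ[X.presheaf.stalk x] X.presheaf.stalk x :=
      ((KFlatLib.stalkToPIso x).app (Coh.structureModule X)).toLinearEquiv.trans (KFlatLib.stalkUnitEquiv x).symm
    have E : ((F.obj L : Type u) ⊗[X.presheaf.stalk x] (F.obj D : Type u)) ≃ₗ[X.presheaf.stalk x]
        X.presheaf.stalk x := i.toLinearEquiv.trans o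
    haveI hI : Module.Invertible (X.presheaf.stalk x) (F.obj L : Type u) := Module.Invertible.left E
    haveI hF : Module.Free (X.presheaf.stalk x) (F.obj L : Type u) := Module.free_of_flat_of_isLocalRing
    obtain ⟨l⟩ := Module.Invertible.free_iff_linearEquiv.1 hF
    exact ⟨hF, l.finrank_eq.trans (Module.finrank_self _)⟩
  exact BertiniSec.isInvertible_of_rank_one (ConsPropLib.isFinLocFreeOfRank_iff.2
    ⟨QCoh.isFinLocFree_iff.2 ⟨hL, fun x => (key x).1⟩, fun x => (key x).2⟩)

/-- The tensor product of finitely presented modules is finitely presented. -/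
theorem finitePresentation_tensor {R : Type u} [CommRing R] (M N : Type u) [AddCommGroup M] [Module R M]
    [AddCommGroup N] [Module R N] [Module.FinitePresentation R M] [Module.FinitePresentation R N] :
    Module.FinitePresentation R (M ⊗[R] N) := by
  obtain ⟨n, m, f, g, hf, hfg⟩ := Module.FinitePresentation.exists_fin' R M
  obtain ⟨n', m', f', g', hf', hfg'⟩ := Module.FinitePresentation.exists_fin' R N
  haveI : Module.FinitePresentation R ((Fin n → R) ⊗[R] (Fin n' → R)) := Module.finitePresentation_of_projective _ _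
  refine Module.finitePresentation_of_surjective (TensorProduct.map f f') (TensorProduct.map_surjective hf hf') ?_
  rw [TensorProduct.map_ker hfg hf hfg' hf']
  exact Submodule.FG.sup (Module.Finite.iff_fg.1 (Module.Finite.range _)) (Module.Finite.iff_fg.1 (Module.Finite.range _))

/-- The tensor product of modules of finite presentation. -/
theorem isFP_tensor {M N : X.Modules} (hM : CohB1.IsFP M) (hN : CohB1.IsFP N) :
    CohB1.IsFP (CohB1.tensorMod M N) := by
  have hMq := QCoh.isQCoh_of_isFP hM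
  have hNq := QCoh.isQCoh_of_isFP hN
  refine QCoh.isFP_of_finitePresentation (KFlatLib.isQCoh_tensor hMq hNq) (fun V : X.affineOpens => V.1)
    (iSup_affineOpens_eq_top X) (fun V => V.2) fun V => ?_
  haveI := QCoh.finitePresentation_of_isFP hM V.2
  haveI := QCoh.finitePresentation_of_isFP hN V.2
  haveI := finitePresentation_tensor (R := Γ(X, V.1)) Γ(M, V.1) Γ(N, V.1)
  exact Module.FinitePresentation.of_equiv
    (LinearEquiv.ofBijective (QCoh.tmLin M N V.1) (QCoh.bijective_tmLin hMq hNq V.2))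

/-- A proper morphism to an affine scheme with a module and an invertible module comes from a
noetherian affine base. -/
theorem exists_pair_model {S : Scheme.{u}} [IsAffine S] (f : X ⟶ S) [IsProper f] [LocallyOfFinitePresentation f]
    (F : X.Modules) (hF : CohB1.IsFP F) (L : X.Modules) (hL : PicF.IsInvertible L) :
    ∃ (S₁ X₁ : Scheme.{u}) (ρ : S ⟶ S₁) (f₁ : X₁ ⟶ S₁) (q : X ⟶ X₁) (F₁ L₁ : X₁.Modules),
      IsNoetherian S₁ ∧ IsAffine S₁ ∧ IsProper f₁ ∧ IsPullback q f f₁ ρ ∧ Coh.IsCoh F₁ ∧ PicF.IsInvertible L₁ ∧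
        Nonempty ((Scheme.Modules.pullback q).obj F₁ ≅ F) ∧ Nonempty ((Scheme.Modules.pullback q).obj L₁ ≅ L) := by
  let A : CommRingCat.{u} := Γ(S, ⊤)
  let D := NoethApprox.diagram A
  let c := NoethApprox.cone A
  have hc : IsLimit c := NoethApprox.isLimit A
  haveI : ∀ {a b : (Finset A)ᵒᵖ} (t : a ⟶ b), IsAffineHom (D.map t) := fun t =>
    NoethApprox.isAffineHom_map A t
  haveI : ∀ (a b : (Finset A)ᵒᵖ) (t : a ⟶ b), IsAffineHom (D.map t) := fun _ _ t => inferInstance
  haveI : ∀ a, IsAffine (D.obj a) := fun a => NoethApprox.isAffine_obj A a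
  haveI : ∀ a, IsNoetherian (D.obj a) := fun a => NoethApprox.isNoetherian_obj A a
  let f' : X ⟶ c.pt := f ≫ S.isoSpec.hom
  haveI : IsProper f' := inferInstanceAs (IsProper (f ≫ S.isoSpec.hom))
  haveI : LocallyOfFinitePresentation f' := inferInstanceAs (LocallyOfFinitePresentation (f ≫ S.isoSpec.hom))
  obtain ⟨i, X₂, u₂, g₂, hX⟩ := hasModel hc f'
  haveI := hX.lfp; haveI := hX.qc; haveI := hX.qs
  haveI := hX.compactSpace; haveI := hX.quasiSeparatedSpace
  have hp : IsProper (pullback.snd u₂ (c.π.app i)) :=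
    of_two @IsProper hX.sq (IsPullback.of_hasPullback _ _) inferInstance
  obtain ⟨k, φk, hk⟩ := ConsPropLib.core_isProper _ D c hc (fun a b t => inferInstance) i
    inferInstance u₂ inferInstance inferInstance inferInstance hp
  let DX := MorLib.BC.diag D u₂
  let cX := MorLib.BC.cone D u₂ hX.sq
  have hcX : IsLimit cX := MorLib.BC.isLimitCone D u₂ hX.sq hc
  haveI : ∀ (a b : Over i) (t : a ⟶ b), IsAffineHom (DX.map t) := fun a b t => inferInstance
  haveI : ∀ a : Over i, CompactSpace (DX.obj a) := fun a => MorLib.BC.compactSpace_obj D u₂ a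
  haveI : ∀ a : Over i, QuasiSeparatedSpace (DX.obj a) := fun a => MorLib.BC.quasiSeparatedSpace_obj D u₂ a
  let ok : Over i := Over.mk φk
  obtain ⟨Li, hLi, ⟨eL⟩⟩ := H23.PicInv.exists_inverse hL
  have hfp : ∀ {M : X.Modules}, PicF.IsInvertible M → CohB1.IsFP M := fun h =>
    QCoh.isFP_of_isFinLocFree (H23.PullPush.isFinLocFree_of_isInvertible h)
  obtain ⟨a, φa, Fa, hFa, ⟨θF⟩⟩ := LimMod.exists_module_descend DX cX hcX (i := ok) (F := F) hF
  obtain ⟨b, φb, Lb, hLb, ⟨θL⟩⟩ := LimMod.exists_module_descend DX cX hcX (i := a) (F := L) (hfp hL)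
  obtain ⟨m, φm, Em, hEm, ⟨θE⟩⟩ := LimMod.exists_module_descend DX cX hcX (i := b) (F := Li) (hfp hLi)
  let Lm := (Scheme.Modules.pullback (DX.map φm)).obj Lb
  have hLm : CohB1.IsFP Lm := ModStLib.isFP_pullback _ hLb
  let θm : (Scheme.Modules.pullback (cX.π.app m)).obj Lm ≅ L :=
    (Scheme.Modules.pullbackComp _ _).app Lb ≪≫ (Scheme.Modules.pullbackCongr (cX.w φm)).app Lb ≪≫ θL
  obtain ⟨pt⟩ := H23.PicMul.pull (cX.π.app m) Lm Em
  obtain ⟨po⟩ := PicClLib.nonempty_pullback_structureModule (cX.π.app m)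
  obtain ⟨n, φn, ⟨eN⟩⟩ := LimMod.exists_iso_stage DX cX hcX (isFP_tensor hLm hEm)
    (QCoh.isFP_of_isFinLocFree (H23.PullPush.isFinLocFree_of_isInvertible
      (InvX.isInvertible_structureModule (X := DX.obj m))))
    (pt ≪≫ PicGrp.tensorModIso θm θE ≪≫ eL ≪≫ po.symm)
  obtain ⟨pn⟩ := H23.PicMul.pull (DX.map φn) Lm Em
  obtain ⟨pn₀⟩ := PicClLib.nonempty_pullback_structureModule (DX.map φn)
  let ψ : n ⟶ a := φn ≫ φm ≫ φb
  let γ : n.left ⟶ i := n.hom
  haveI h1 : IsProper (pullback.snd u₂ (D.map γ)) := Desc.of_factor @IsProper hk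
    (a := D.map (ψ ≫ φa).left) (by rw [← D.map_comp]; exact congrArg D.map (Over.w (ψ ≫ φa)))
    (IsPullback.of_hasPullback u₂ (D.map γ))
  haveI : IsLocallyNoetherian (DX.obj n) :=
    LocallyOfFiniteType.isLocallyNoetherian (pullback.snd u₂ (D.map γ))
  refine ⟨D.obj n.left, DX.obj n, S.isoSpec.hom ≫ c.π.app n.left, pullback.snd u₂ (D.map γ), cX.π.app n,
    (Scheme.Modules.pullback (DX.map ψ)).obj Fa, (Scheme.Modules.pullback (DX.map φn)).obj Lm, inferInstance,
    inferInstance, h1, ?_, QCoh.isCoh_iff_isFP.2 (ModStLib.isFP_pullback _ hFa),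
    isInvertible_of_tensor_inverse (ModStLib.isFP_pullback _ hLm) (pn.symm ≪≫ eN ≪≫ pn₀),
    ⟨(Scheme.Modules.pullbackComp _ _).app Fa ≪≫ (Scheme.Modules.pullbackCongr (cX.w ψ)).app Fa ≪≫ θF⟩,
    ⟨(Scheme.Modules.pullbackComp _ _).app Lm ≪≫ (Scheme.Modules.pullbackCongr (cX.w φn)).app Lm ≪≫ θm⟩⟩
  exact (MorLib.BC.isPullback_proj D u₂ hX.sq n).of_iso (Iso.refl _) (Iso.refl _) S.isoSpec.symm (Iso.refl _)
    (by simp [cX]; rfl) (by simp [f']) (by simp [γ]) (by simp)

end Groth.Agent.HilbSnap

end
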