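import Groth.Agent.HilbSnap.HighEuler
import Groth.Agent.HilbSnap.Model
import Groth.Agent.AlgSpVal.DvrThrough
import Groth.Agent.Lib.AVProj
import Groth.Agent.FibDim.Comp
import Groth.Agent.MorLib.LimCons
import Groth.Agent.ConsPropLib.Noetherian
import Groth.Agent.S4799
import Groth.Agent.S4381
import Groth.Agent.S2332
import Groth.Agent.AmpleVan.Pull

/-!
# Specialisation can only increase the Hilbert polynomials of the fibres
-/

set_option autoImplicit false
set_option linter.style.haveILetI false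
set_option linter.unusedSectionVars false
set_option backward.isDefEq.respectTransparency false
set_option backward.isDefEq.respectTransparency.types false
set_option maxHeartbeats 1000000
set_option synthInstance.maxHeartbeats 400000

universe u

open CategoryTheory CategoryTheory.Limits AlgebraicGeometry TopologicalSpace Topology
open scoped TensorProduct

noncomputable section

namespace Groth.Agent.HilbSnap

open Groth.Agent

variable {X S X₁ S₁ : Scheme.{u}} {f : X ⟶ S} {f₁ : X₁ ⟶ S₁} {q : X ⟶ X₁} {ρ : S ⟶ S₁}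

/-- The fibres of a base change. -/
theorem exists_fiber_square (h : IsPullback q f f₁ ρ) (s : S) :
    ∃ θ : f.fiber s ⟶ f₁.fiber (ρ s), θ ≫ f₁.fiberι (ρ s) = f.fiberι s ≫ q ∧
      IsPullback θ (f.fiberToSpecResidueField s) (f₁.fiberToSpecResidueField (ρ s))
        (Spec.map (ρ.residueFieldMap s)) := by
  let φ := ρ.residueFieldMap s
  have hρ : Spec.map φ ≫ S₁.fromSpecResidueField (ρ s) = S.fromSpecResidueField s ≫ ρ :=
    Scheme.Hom.SpecMap_residueFieldMap_fromSpecResidueField ρ s
  have sq₁ : IsPullback (f.fiberι s ≫ q) (f.fiberToSpecResidueField s) f₁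
      (S.fromSpecResidueField s ≫ ρ) :=
    (IsPullback.of_hasPullback f (S.fromSpecResidueField s)).paste_horiz h
  let θ : f.fiber s ⟶ f₁.fiber (ρ s) :=
    pullback.lift (f.fiberι s ≫ q) (f.fiberToSpecResidueField s ≫ Spec.map φ)
      (by rw [sq₁.w, Category.assoc, hρ])
  have hθ : θ ≫ f₁.fiberι (ρ s) = f.fiberι s ≫ q := pullback.lift_fst _ _ _
  exact ⟨θ, hθ, IsPullback.of_right
    (by change IsPullback (θ ≫ f₁.fiberι (ρ s)) (f.fiberToSpecResidueField s) f₁ _; rw [hθ, hρ]; exact sq₁)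
    (pullback.lift_snd _ _ _) (IsPullback.of_hasPullback f₁ (S₁.fromSpecResidueField (ρ s)))⟩

/-- Ampleness is preserved by base change between affine bases. -/
theorem isAmple_of_affine_square [IsAffine S] [IsAffine S₁] [QuasiCompact f₁] (h : IsPullback q f f₁ ρ)
    {L : X₁.Modules} (hL : CohB1.IsAmple L) : CohB1.IsAmple ((Scheme.Modules.pullback q).obj L) := by
  have hP : CohB1.IsAmple ((Scheme.Modules.pullback (pullback.fst f₁ ρ)).obj L) :=
    (S4381.result (pullback.snd f₁ ρ) _).1 (S2332.result f₁ ρ L ((S4381.result f₁ L).2 hL))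
  haveI : QuasiCompact f := MorphismProperty.of_isPullback h inferInstance
  haveI : CompactSpace X := QuasiCompact.compactSpace_of_compactSpace f
  exact AmpleX.isAmple_of_iso ((Scheme.Modules.pullbackComp _ _).app L ≪≫
      (Scheme.Modules.pullbackCongr h.isoPullback_hom_fst).app L)
    (AmpleVan.isAmple_pullback_of_isEmbedding h.isoPullback.hom h.isoPullback.hom.homeomorph.isEmbedding hP)

/-- Ampleness on a fibre is insensitive to base change. -/
theorem isAmple_fiber_iff [IsProper f₁] (h : IsPullback q f f₁ ρ) {L : X₁.Modules} (hL : PicF.IsInvertible L)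
    (s : S) :
    CohB1.IsAmple ((Scheme.Modules.pullback (f₁.fiberι (ρ s))).obj L) ↔
      CohB1.IsAmple ((Scheme.Modules.pullback (f.fiberι s)).obj ((Scheme.Modules.pullback q).obj L)) := by
  obtain ⟨θ, hθ, sq⟩ := exists_fiber_square h s
  let L' := (Scheme.Modules.pullback (f₁.fiberι (ρ s))).obj L
  let e : (Scheme.Modules.pullback θ).obj L' ≅
      (Scheme.Modules.pullback (f.fiberι s)).obj ((Scheme.Modules.pullback q).obj L) :=
    (Scheme.Modules.pullbackComp θ _).app L ≪≫ (Scheme.Modules.pullbackCongr hθ).app L ≪≫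
      ((Scheme.Modules.pullbackComp _ q).app L).symm
  haveI : IsProper (f₁.fiberToSpecResidueField (ρ s)) :=
    inferInstanceAs (IsProper (pullback.snd f₁ (S₁.fromSpecResidueField (ρ s))))
  refine ⟨fun ha => AmpleX.isAmple_of_iso e (isAmple_of_affine_square sq ha), fun ha => ?_⟩
  letI : Algebra (S₁.residueField (ρ s) : Type u) (S.residueField s : Type u) :=
    (ρ.residueFieldMap s).hom.toAlgebra
  let p : f₁.fiber (ρ s) ⟶ Spec (CommRingCat.of (S₁.residueField (ρ s) : Type u)) := f₁.fiberToSpecResidueField (ρ s)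
  haveI : IsProper p := ‹IsProper (f₁.fiberToSpecResidueField (ρ s))›
  refine AVProj.isAmple_of_baseChange p (S.residueField s : Type u) L' (PicClLib.isInvertible_pullback _ hL) ?_
  let g := Spec.map (CommRingCat.ofHom (algebraMap (S₁.residueField (ρ s) : Type u) (S.residueField s : Type u)))
  have sq' : IsPullback θ (f.fiberToSpecResidueField s) p g := sq
  haveI : CompactSpace ↥(pullback p g) := QuasiCompact.compactSpace_of_compactSpace (pullback.snd p g)
  exact AmpleX.isAmple_of_iso ((Scheme.Modules.pullbackComp _ _).app L' ≪≫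
      (Scheme.Modules.pullbackCongr sq'.isoPullback_inv_fst).app L')
    (AmpleVan.isAmple_pullback_of_isEmbedding sq'.isoPullback.inv sq'.isoPullback.inv.homeomorph.isEmbedding
      (AmpleX.isAmple_of_iso e.symm ha))

/-- A relatively ample module is ample on the fibres over an affine base. -/
theorem isAmple_fiber [IsAffine S] [QuasiCompact f] {L : X.Modules} (hL : CohB1.IsAmple L) (s : S) :
    CohB1.IsAmple ((Scheme.Modules.pullback (f.fiberι s)).obj L) :=
  isAmple_of_affine_square (IsPullback.of_hasPullback f (S.fromSpecResidueField s)) hL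

/-- Twists commute with base change. -/
theorem eulerChar_twist_bc [IsProper f₁] (h : IsPullback q f f₁ ρ) {F L : X₁.Modules} (hF : Coh.IsQCoh F)
    (hL : PicF.IsInvertible L) (n : ℕ) (s : S) :
    PerfAux.eulerChar f (CohB1.tensorMod ((Scheme.Modules.pullback q).obj F)
      (CohB1.tensorPow ((Scheme.Modules.pullback q).obj L) n)) s =
      PerfAux.eulerChar f₁ (CohB1.tensorMod F (CohB1.tensorPow L n)) (ρ s) := by
  obtain ⟨a⟩ := H23.PicMul.pull q F (CohB1.tensorPow L n)
  obtain ⟨b⟩ := pullback_tensorPow q L n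
  exact (eulerChar_congr f (a ≪≫ PicGrp.tensorModIso (Iso.refl _) b).symm s).trans (eulerChar_bc h
    (KFlatLib.isQCoh_tensor hF (ProjUPX.isQCoh_of_isInvertible (InvX.isInvertible_tensorPow hL n))) s)

/-- Over a discrete valuation ring the Hilbert polynomial can only jump up at the closed point. -/
theorem eventually_le_closedPoint {A : Type u} [CommRing A] [IsDomain A] [IsDiscreteValuationRing A]
    (g : X ⟶ Spec (CommRingCat.of A)) [IsProper g] {L : X.Modules} (hL : PicF.IsInvertible L)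
    (ha : CohB1.IsAmple ((Scheme.Modules.pullback (g.fiberι (IsLocalRing.closedPoint A))).obj L))
    {M : X.Modules} (hM : Coh.IsCoh M) :
    ∃ N, ∀ n, N ≤ n → PerfAux.eulerChar g (CohB1.tensorMod M (CohB1.tensorPow L n)) (⊥ : PrimeSpectrum A) ≤
      PerfAux.eulerChar g (CohB1.tensorMod M (CohB1.tensorPow L n)) (IsLocalRing.closedPoint A) := by
  letI : X.Over (Spec (CommRingCat.of A)) := ⟨g⟩
  haveI : IsProper (X ↘ Spec (CommRingCat.of A)) := ‹IsProper g›
  haveI : IsLocallyNoetherian X := LocallyOfFiniteType.isLocallyNoetherian g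
  obtain ⟨N, hN⟩ := exists_eulerChar_eq (X := X) hL ha hM
  refine ⟨N, fun n hn => ?_⟩
  obtain ⟨h1, h2⟩ := hN n hn
  haveI : Module.Finite A (Coh.HH X (CohB1.tensorMod M (CohB1.tensorPow L n)) 0) :=
    Groth.Agent.S0002.result A X _ (AmpleVan.isCoh_tensor hM
      (AmpleVan.isCoh_invertible (InvX.isInvertible_tensorPow hL n))) 0
  exact h2.le.trans ((Int.ofNat_le.2 finrank_baseChange_le_spanFinrank).trans h1.ge)

/-- Specialisation can only increase the Hilbert polynomial, for an ample fibre at the specialisation. -/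
theorem eventually_le_of_specializes [IsLocallyNoetherian S₁] (f₁ : X₁ ⟶ S₁) [IsProper f₁] {F L : X₁.Modules}
    (hF : Coh.IsCoh F) (hL : PicF.IsInvertible L) {p t : S₁} (hpt : p ⤳ t)
    (ha : CohB1.IsAmple ((Scheme.Modules.pullback (f₁.fiberι t)).obj L)) :
    ∃ N, ∀ n, N ≤ n → PerfAux.eulerChar f₁ (CohB1.tensorMod F (CohB1.tensorPow L n)) p ≤
      PerfAux.eulerChar f₁ (CohB1.tensorMod F (CohB1.tensorPow L n)) t := by
  obtain ⟨A, _, _, _, i, k, hi, hk, hki⟩ := AlgSpVal.exists_dvr_path_field (𝟙 S₁) p t (by simpa using hpt)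
  rw [Category.comp_id] at hki
  have hbot : i (⊥ : PrimeSpectrum A) = p := by
    have hb : (Spec.map (CommRingCat.ofHom (algebraMap A (FractionRing A)))) (IsLocalRing.closedPoint (FractionRing A)) =
        (⊥ : PrimeSpectrum A) := PrimeSpectrum.ext
      ((congrArg (Ideal.comap (algebraMap A (FractionRing A))) IsLocalRing.maximalIdeal_eq_bot).trans
        (Ideal.comap_bot_of_injective _ (IsFractionRing.injective A _)))
    rw [← hb, ← Scheme.Hom.comp_apply, ← hki]
    exact hk
  have sq := IsPullback.of_hasPullback f₁ i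
  haveI : IsLocallyNoetherian (pullback f₁ i) := LocallyOfFiniteType.isLocallyNoetherian (pullback.snd f₁ i)
  have ha' := (isAmple_fiber_iff sq hL (IsLocalRing.closedPoint A)).1 (by rw [show i (IsLocalRing.closedPoint A) = t from hi]; exact ha)
  obtain ⟨N, hN⟩ := eventually_le_closedPoint (pullback.snd f₁ i) (PicClLib.isInvertible_pullback _ hL) ha'
    (ZClosLib.isCoh_pullback (pullback.fst f₁ i) hF)
  refine ⟨N, fun n hn => ?_⟩
  have h := hN n hn
  rw [eulerChar_twist_bc sq hF.1 hL, eulerChar_twist_bc sq hF.1 hL, hbot,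
    show i (IsLocalRing.closedPoint A) = t from hi] at h
  exact h

/-- The Hilbert polynomials of the fibres over a noetherian base define constructible sets. -/
theorem isConstructible_eulerChar_mem [IsNoetherian S₁] (f₁ : X₁ ⟶ S₁) [IsProper f₁] {F L : X₁.Modules}
    (hF : Coh.IsCoh F) (hL : PicF.IsInvertible L) (Φ : Set (ℕ → ℤ)) :
    IsConstructible {t : S₁ | (fun n => PerfAux.eulerChar f₁ (CohB1.tensorMod F (CohB1.tensorPow L n)) t) ∈ Φ} := by
  refine ConsPropLib.isConstructible_of_dichotomy _ fun T j _ _ _ => ?_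
  let f' := pullback.snd f₁ j
  let F' := (Scheme.Modules.pullback (pullback.fst f₁ j)).obj F
  let L' := (Scheme.Modules.pullback (pullback.fst f₁ j)).obj L
  haveI : IsLocallyNoetherian (pullback f₁ j) := LocallyOfFiniteType.isLocallyNoetherian f'
  haveI : LocallyOfFinitePresentation f' := inferInstance
  have hF' : CohB1.IsFP F' := QCoh.isCoh_iff_isFP.1 (ZClosLib.isCoh_pullback _ hF)
  haveI : Coh.IsQCoh F' := QCoh.isQCoh_of_isFP hF'
  obtain ⟨U, hUne, hU⟩ := S4799.result f' F' hF'
  let FU := (Scheme.Modules.pullback (f' ⁻¹ᵁ U).ι).obj F'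
  let LU := (Scheme.Modules.pullback (f' ⁻¹ᵁ U).ι).obj L'
  have sqU := IsPullback.flip (isPullback_morphismRestrict f' U)
  haveI : LocallyOfFinitePresentation (f' ∣_ U) := inferInstance
  have hflat : FlatMod.IsFlatOver (f' ∣_ U) FU := fun x =>
    FibFlatMod.isFlatOverAt_bc sqU (𝟙 _) _ (Category.comp_id _) F' x
      (GrFlat5.isFlatOverAt_of_iso f' ((Scheme.Modules.pullbackId _).app F').symm _
        (hU _ (by
          show f' ((f' ⁻¹ᵁ U).ι x) ∈ U
          rw [← Scheme.Hom.comp_apply, sqU.w]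
          exact ((f' ∣_ U) x).2)))
  have hLU : PicF.IsInvertible LU := PicClLib.isInvertible_pullback _ (PicClLib.isInvertible_pullback _ hL)
  let E : S₁ → ℕ → ℤ := fun t n => PerfAux.eulerChar f₁ (CohB1.tensorMod F (CohB1.tensorPow L n)) t
  have key : ∀ (n : ℕ) (z : U.toScheme),
      PerfAux.eulerChar (f' ∣_ U) (CohB1.tensorMod FU (CohB1.tensorPow LU n)) z = E (j z.1) n := fun n z =>
    (eulerChar_twist_bc sqU (QCoh.isQCoh_of_isFP hF') (PicClLib.isInvertible_pullback _ hL) n z).trans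
      (eulerChar_twist_bc (IsPullback.of_hasPullback f₁ j) hF.1 hL n (U.ι z))
  haveI : PreconnectedSpace (U : Scheme.{u}) :=
    Subtype.preconnectedSpace (((PreirreducibleSpace.isPreirreducible_univ (X := T)).open_subset U.isOpen (Set.subset_univ _)).isPreconnected)
  obtain ⟨z₀, hz₀⟩ := hUne
  have hconst : ∀ z : U.toScheme, E (j z.1) = E (j z₀) := fun z => funext fun n => by
    have hlc := PBC.isLocallyConstant_eulerChar (f' ∣_ U) _
      (isFP_tensor_invertible (ModStLib.isFP_pullback _ hF') (H23.PicMul.isInvertible_tensorPow hLU n))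
      (TwistFlat.isFlatOver_tensor _ (H23.PicMul.isInvertible_tensorPow hLU n) hflat)
    exact (key n z).symm.trans ((hlc.apply_eq_of_preconnectedSpace z ⟨z₀, hz₀⟩).trans (key n _))
  by_cases h : E (j z₀) ∈ Φ
  · exact Or.inl ⟨z₀, mem_interior.2 ⟨U, fun z hz => show E (j z) ∈ Φ by rw [hconst ⟨z, hz⟩]; exact h, U.isOpen, hz₀⟩⟩
  · exact Or.inr ⟨z₀, mem_interior.2 ⟨U, fun z hz => show E (j z) ∉ Φ by rw [hconst ⟨z, hz⟩]; exact h, U.isOpen, hz₀⟩⟩

/-- The locus where the Hilbert polynomial is eventually at least `Φ` is closed. -/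
theorem isClosed_setOf_eventually_ge_affine [IsAffine S] (f : X ⟶ S) [IsProper f] [LocallyOfFinitePresentation f]
    {F L : X.Modules} (hF : CohB1.IsFP F) (hL : PicF.IsInvertible L) (ha : CohB1.IsAmple L) (Φ : Polynomial ℚ) :
    IsClosed {s : S | ∃ N : ℕ, ∀ n : ℕ, N ≤ n →
      Φ.eval (n : ℚ) ≤ (PerfAux.eulerChar f (CohB1.tensorMod F (CohB1.tensorPow L n)) s : ℚ)} := by
  obtain ⟨S₁, X₁, ρ, f₁, q, F₁, L₁, _, _, _, sq, hF₁, hL₁, ⟨θF⟩, ⟨θL⟩⟩ := exists_pair_model f F hF L hL
  let P : (ℕ → ℤ) → Prop := fun φ => ∃ N : ℕ, ∀ n : ℕ, N ≤ n → Φ.eval (n : ℚ) ≤ (φ n : ℚ)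
  let Z₁ : Set S₁ := {t | (fun n => PerfAux.eulerChar f₁ (CohB1.tensorMod F₁ (CohB1.tensorPow L₁ n)) t) ∈ setOf P}
  have hE : ∀ (n : ℕ) (s : S), PerfAux.eulerChar f (CohB1.tensorMod F (CohB1.tensorPow L n)) s =
      PerfAux.eulerChar f₁ (CohB1.tensorMod F₁ (CohB1.tensorPow L₁ n)) (ρ s) := fun n s => by
    obtain ⟨b⟩ : Nonempty (CohB1.tensorPow ((Scheme.Modules.pullback q).obj L₁) n ≅ CohB1.tensorPow L n) :=
      H23.PicMul.cl_eq_iff.1 (by
        rw [H23.PicMul.cl_tensorPow, H23.PicMul.cl_tensorPow, H23.PicMul.cl_eq_iff.2 ⟨θL⟩])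
    rw [← eulerChar_twist_bc sq hF₁.1 hL₁]
    exact (eulerChar_congr f (PicGrp.tensorModIso θF b) s).symm
  have hset : {s : S | ∃ N : ℕ, ∀ n : ℕ, N ≤ n →
      Φ.eval (n : ℚ) ≤ (PerfAux.eulerChar f (CohB1.tensorMod F (CohB1.tensorPow L n)) s : ℚ)} = ρ ⁻¹' Z₁ :=
    Set.ext fun s => by
      show (∃ N : ℕ, _) ↔ ∃ N : ℕ, _
      simp only [hE]
  rw [hset, ← isOpen_compl_iff, isOpen_iff_mem_nhds]
  intro s hs
  haveI : IsAffineHom ρ := isAffineHom_of_isAffine _
  refine FibDim.mem_nhds_of_generizations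
    (MorLib.LimCons.isConstructible_preimage ρ (isConstructible_eulerChar_mem f₁ hF₁ hL₁ (setOf P))).compl.isLocallyConstructible
    fun s' hs' hmem => hs ?_
  obtain ⟨N, hN⟩ := hmem
  obtain ⟨N', hN'⟩ := eventually_le_of_specializes f₁ hF₁ hL₁ (hs'.map ρ.continuous)
    ((isAmple_fiber_iff sq hL₁ s).2 (AmpleX.isAmple_of_iso
      ((Scheme.Modules.pullback (f.fiberι s)).mapIso θL.symm) (isAmple_fiber ha s)))
  exact ⟨max N N', fun n hn => (hN n (le_of_max_le_left hn)).trans
    (Int.cast_le.2 (hN' n (le_of_max_le_right hn)))⟩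

/-- The locus where the Hilbert polynomial is eventually at least `Φ` is closed. -/
theorem isClosed_setOf_eventually_ge (f : X ⟶ S) [IsProper f] [LocallyOfFinitePresentation f]
    {F L : X.Modules} (hF : CohB1.IsFP F) (hL : PicF.IsInvertible L) (ha : RelAmple.IsRelAmple f L)
    (Φ : Polynomial ℚ) :
    IsClosed {s : S | ∃ N : ℕ, ∀ n : ℕ, N ≤ n →
      Φ.eval (n : ℚ) ≤ (PerfAux.eulerChar f (CohB1.tensorMod F (CohB1.tensorPow L n)) s : ℚ)} := by
  have hcov : TopologicalSpace.IsOpenCover (fun V : S.affineOpens => (V.1 : S.Opens)) := iSup_affineOpens_eq_top S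
  refine hcov.isClosed_iff_coe_preimage.2 fun V => ?_
  haveI : IsAffine (V.1 : Scheme.{u}) := V.2
  haveI := ha.1
  let R := Scheme.Modules.restrictFunctorIsoPullback (f ⁻¹ᵁ V.1).ι
  have hV := isClosed_setOf_eventually_ge_affine (f ∣_ V.1) (ModStLib.isFP_pullback (f ⁻¹ᵁ V.1).ι hF)
    (PicClLib.isInvertible_pullback _ hL) (AmpleX.isAmple_of_iso (R.app L) (ha.2 V)) Φ
  have sq := IsPullback.flip (isPullback_morphismRestrict f V.1)
  simp only [eulerChar_twist_bc sq (QCoh.isQCoh_of_isFP hF) hL] at hV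
  exact hV

end Groth.Agent.HilbSnap

end
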