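import Groth.Agent.HilbSnap.ExactBC
import Groth.Agent.HilbSnap.GeClosed
import Groth.Agent.AmpleVan.Uniform
import Groth.Agent.ConsPropLib.Noetherian
import Groth.Agent.S4799
import Groth.Agent.S0002
import Groth.Agent.FibAmple.Nhd

/-!
# Uniform Serre vanishing on the fibres
-/

set_option autoImplicit false
set_option linter.style.haveILetI false
set_option linter.unusedSectionVars false
set_option backward.isDefEq.respectTransparency false
set_option backward.isDefEq.respectTransparency.types false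
set_option maxHeartbeats 1000000
set_option synthInstance.maxHeartbeats 400000

universe u

open CategoryTheory CategoryTheory.Limits AlgebraicGeometry TopologicalSpace
open scoped TensorProduct

noncomputable section

namespace Groth.Agent.HilbSnap

open Groth.Agent Groth.Agent.QCoh

section Affine

variable {A : Type u} [CommRing A] {X : Scheme.{u}} [X.Over (Spec (CommRingCat.of A))]

local notation "π" => (X ↘ Spec (CommRingCat.of A))

/-- A flat coherent module without higher cohomology has none on the fibres. -/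
theorem subsingleton_fiberH_of_HH [IsNoetherianRing A] [IsProper π] {T : X.Modules} (hT : Coh.IsCoh T)
    (hfl : FlatMod.IsFlatOver π T) (h : ∀ p, Subsingleton (Coh.HH X T (p + 1)))
    (x : Spec (CommRingCat.of A)) (p : ℕ) : Subsingleton (CohIII.fiberH π T x (p + 1)) := by
  obtain ⟨P, hP⟩ := exists_isBCModel T hT hfl
  obtain ⟨c, hc⟩ := hP.2.2.1
  have hex : ∀ q : ℤ, q < 0 → P.ExactAt q := by
    intro q hq
    obtain ⟨p, rfl⟩ : ∃ p : ℕ, q = -((p + 1 : ℕ) : ℤ) := ⟨(-q - 1).toNat, by omega⟩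
    obtain ⟨e₂⟩ := hP.2.2.2.2.2 A (RingHom.id A) X (𝟙 X) π
      (by
        haveI : IsIso (Spec.map (CommRingCat.ofHom (RingHom.id A))) :=
          inferInstanceAs (IsIso (Spec.map (𝟙 (CommRingCat.of A))))
        exact IsPullback.of_horiz_isIso ⟨by
          show 𝟙 _ ≫ π = π ≫ Spec.map (𝟙 (CommRingCat.of A))
          rw [Spec.map_id, Category.comp_id, Category.id_comp]⟩) (p + 1)
    let eid : CohIII.bcCx (RingHom.id A) P ≅ P :=
      HomologicalComplex.Hom.isoOfComponents (fun n => (ModuleCat.extendScalarsId A).app (P.X n))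
        fun a b _ => ((ModuleCat.extendScalarsId A).hom.naturality (P.d a b)).symm
    let e : Coh.HH X T (p + 1) ≃ₗ[A] P.homology (-((p + 1 : ℕ) : ℤ)) := ((HHcongr (Coh.toGlobal π) ((Scheme.Modules.pullbackId X).app T) (p + 1)).symm.trans
      (e₂.trans ((HomologicalComplex.homologyFunctor _ _ (-((p + 1 : ℕ) : ℤ))).mapIso eid).toLinearEquiv))
    haveI := h p
    haveI : Subsingleton (P.homology (-((p + 1 : ℕ) : ℤ))) :=
      @Equiv.subsingleton _ (Coh.HH X T (p + 1)) e.symm.toEquiv (h p)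
    exact (HomologicalComplex.exactAt_iff_isZero_homology _ _).2 (ModuleCat.isZero_of_subsingleton _)
  obtain ⟨e⟩ := hP.2.2.2.2.2 _ (resHom x) ((π).fiber x) ((π).fiberι x) ((π).fiberToSpecResidueField x)
    (isPullback_resHom x) (p + 1)
  haveI : Subsingleton ((CohIII.bcCx (resHom x) P).homology (-((p + 1 : ℕ) : ℤ))) :=
    ModuleCat.subsingleton_of_isZero ((HomologicalComplex.exactAt_iff_isZero_homology _ _).1
      (exactAt_bcCx P (fun i => by haveI := hP.2.1 i; exact Module.Projective.of_free) hc hex (resHom x) (by omega)))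
  exact e.toEquiv.subsingleton

end Affine

/-- Noetherian induction for an increasing family of sets. -/
theorem exists_nat_forall_mem {S : Scheme.{u}} [IsNoetherian S] (P : ℕ → Set S) (hP : Monotone P)
    (h : ∀ ⦃T : Scheme.{u}⦄ (j : T ⟶ S) [IsClosedImmersion j] [IsIntegral T] [IsNoetherian T],
      ∃ (U : T.Opens) (N : ℕ), (U : Set T).Nonempty ∧ ∀ z ∈ U, j z ∈ P N) :
    ∃ N, ∀ t, t ∈ P N := by
  suffices H : ∀ Z : Closeds S, ∃ N, ∀ t ∈ Z, t ∈ P N by
    obtain ⟨N, hN⟩ := H ⊤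
    exact ⟨N, fun t => hN t trivial⟩
  intro Z
  induction Z using WellFoundedLT.induction with
  | _ Z ih =>
    have hsplit : ∀ U : Set S, IsOpen U → ((Z : Set S) ∩ U).Nonempty → ∃ N, ∀ t ∈ Z, t ∉ U → t ∈ P N := by
      intro U hU ⟨t, htZ, htU⟩
      obtain ⟨N, hN⟩ := ih ⟨(Z : Set S) \ U, Z.isClosed.sdiff hU⟩
        (lt_of_le_of_ne (fun x hx => hx.1) fun he => (show t ∈ (Z : Set S) \ U by
          rw [show (Z : Set S) \ U = Z from congrArg SetLike.coe he]; exact htZ).2 htU)
      exact ⟨N, fun x hx hxU => hN x ⟨hx, hxU⟩⟩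
    rcases (Z : Set S).eq_empty_or_nonempty with hZ | hZ
    · exact ⟨0, fun t ht => absurd (show t ∈ (Z : Set S) from ht) (by simp [hZ])⟩
    by_cases hirr : IsPreirreducible (Z : Set S)
    · have hi : IsIrreducible (Z : Set S) := ⟨hZ, hirr⟩
      obtain ⟨T, j, _, _, hr, -⟩ := ConsPropLib.exists_integral_closure hi.genericPoint
      rw [hi.isGenericPoint_genericPoint_closure.def, Z.isClosed.closure_eq] at hr
      haveI : IsLocallyNoetherian T := LocallyOfFiniteType.isLocallyNoetherian j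
      haveI : CompactSpace T := QuasiCompact.compactSpace_of_compactSpace j
      haveI : IsNoetherian T := {}
      obtain ⟨U, N, ⟨z, hz⟩, hN⟩ := h j
      obtain ⟨W, hW, hWU⟩ := (j.isClosedEmbedding.isInducing.isOpen_iff).1 U.2
      have hWU' : ∀ x, j x ∈ W ↔ x ∈ U := fun x => Set.ext_iff.1 hWU x
      obtain ⟨N', hN'⟩ := hsplit W hW ⟨j z, hr ▸ ⟨z, rfl⟩, (hWU' z).2 hz⟩
      refine ⟨max N N', fun t ht => ?_⟩
      by_cases htW : t ∈ W
      · obtain ⟨x, rfl⟩ : t ∈ Set.range j := hr ▸ ht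
        exact hP (le_max_left _ _) (hN x ((hWU' x).1 htW))
      · exact hP (le_max_right _ _) (hN' t ht htW)
    · simp only [IsPreirreducible, not_forall] at hirr
      obtain ⟨U, V, hU, hV, hnU, hnV, hne⟩ := hirr
      obtain ⟨N, hN⟩ := hsplit U hU hnU
      obtain ⟨N', hN'⟩ := hsplit V hV hnV
      refine ⟨max N N', fun t ht => ?_⟩
      by_cases htU : t ∈ U
      · exact hP (le_max_right _ _) (hN' t ht fun htV => hne ⟨t, ht, htU, htV⟩)
      · exact hP (le_max_left _ _) (hN t ht htU)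

/-- Finite dimensional fibre cohomology of rank zero vanishes. -/
theorem subsingleton_fiberH_of_rank {X S : Scheme.{u}} (f : X ⟶ S) [IsProper f] {T : X.Modules}
    (hT : CohB1.IsFP T) (p : ℕ) (s : S) (h : CohIII.fiberRank f T p s = 0) :
    Subsingleton (CohIII.fiberH f T s p) := by
  letI : (f.fiber s).Over (Spec (CommRingCat.of (S.residueField s : Type u))) := ⟨f.fiberToSpecResidueField s⟩
  haveI : IsProper ((f.fiber s) ↘ Spec (CommRingCat.of (S.residueField s : Type u))) :=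
    inferInstanceAs (IsProper (pullback.snd f (S.fromSpecResidueField s)))
  haveI : IsLocallyNoetherian (f.fiber s) :=
    LocallyOfFiniteType.isLocallyNoetherian ((f.fiber s) ↘ Spec (CommRingCat.of (S.residueField s : Type u)))
  haveI : Module.Finite (S.residueField s : Type u)
      (Coh.HH (f.fiber s) ((Scheme.Modules.pullback (f.fiberι s)).obj T) p) :=
    Groth.Agent.S0002.result _ (f.fiber s) _ (QCoh.isCoh_iff_isFP.2 (ModStLib.isFP_pullback _ hT)) p
  exact (Module.finrank_zero_iff (R := (S.residueField s : Type u))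
    (M := Coh.HH (f.fiber s) ((Scheme.Modules.pullback (f.fiberι s)).obj T) p)).1 h

/-- Uniform Serre vanishing on the fibres over a Noetherian base. -/
theorem exists_uniform_fiber_vanishing {X S : Scheme.{u}} [IsNoetherian S] (f : X ⟶ S) [IsProper f]
    {L : X.Modules} (hLi : PicF.IsInvertible L) (hL : RelAmple.IsRelAmple f L) {F : X.Modules} (hF : Coh.IsCoh F) :
    ∃ N, ∀ n, N ≤ n → ∀ (s : S) (p : ℕ),
      CohIII.fiberRank f (CohB1.tensorMod F (CohB1.tensorPow L n)) (p + 1) s = 0 := by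
  let G : ℕ → X.Modules := fun n => CohB1.tensorMod F (CohB1.tensorPow L n)
  obtain ⟨N, hN⟩ := exists_nat_forall_mem
    (fun N => {t : S | ∀ n, N ≤ n → ∀ p, CohIII.fiberRank f (G n) (p + 1) t = 0})
    (fun a b hab t ht n hn p => ht n (hab.trans hn) p) (fun T j _ _ _ => by
      haveI : IsLocallyNoetherian (pullback f j) := LocallyOfFiniteType.isLocallyNoetherian (pullback.snd f j)
      haveI : IsLocallyNoetherian X := LocallyOfFiniteType.isLocallyNoetherian f
      have hF' : CohB1.IsFP ((Scheme.Modules.pullback (pullback.fst f j)).obj F) :=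
        QCoh.isCoh_iff_isFP.1 (ZClosLib.isCoh_pullback _ hF)
      haveI : Coh.IsQCoh ((Scheme.Modules.pullback (pullback.fst f j)).obj F) := QCoh.isQCoh_of_isFP hF'
      obtain ⟨U, ⟨z, hz⟩, hU⟩ := S4799.result (pullback.snd f j) _ hF'
      obtain ⟨V, hV, hzV, hVU⟩ := exists_isAffineOpen_mem_and_subset hz
      let A : Type u := Γ(T, V)
      haveI : IsNoetherianRing A := IsLocallyNoetherian.component_noetherian ⟨V, hV⟩
      let k : Spec (CommRingCat.of A) ⟶ S := hV.fromSpec ≫ j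
      let π := pullback.snd f k
      letI : (pullback f k).Over (Spec (CommRingCat.of A)) := ⟨π⟩
      haveI : IsProper (pullback f k ↘ Spec (CommRingCat.of A)) := inferInstanceAs (IsProper (pullback.snd f k))
      haveI : IsLocallyNoetherian (pullback f k) :=
        LocallyOfFiniteType.isLocallyNoetherian (pullback f k ↘ Spec (CommRingCat.of A))
      let F₂ := (Scheme.Modules.pullback (pullback.fst f k)).obj F
      let L₂ := (Scheme.Modules.pullback (pullback.fst f k)).obj L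
      have hL₂ : CohB1.IsAmple L₂ := (S4381.result π _).1 (S2332.result f k L hL)
      have hL₂i : PicF.IsInvertible L₂ := PicClLib.isInvertible_pullback _ hLi
      have hF₂ : Coh.IsCoh F₂ := ZClosLib.isCoh_pullback _ hF
      obtain ⟨N, hN⟩ := AmpleVan.exists_vanishing (A := A) (X := pullback f k) hL₂ hF₂
      refine ⟨V, N, ⟨z, hzV⟩, fun w hw n hn p => ?_⟩
      have sq := IsPullback.of_hasPullback f k
      let g : pullback f k ⟶ pullback f j :=
        pullback.lift (pullback.fst f k) (π ≫ hV.fromSpec) (by rw [Category.assoc]; exact sq.w)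
      have hc : IsPullback g π (pullback.snd f j) hV.fromSpec :=
        IsPullback.of_right (by rw [pullback.lift_fst]; exact sq) (pullback.lift_snd _ _ _)
          (IsPullback.of_hasPullback f j)
      have hflat : FlatMod.IsFlatOver (pullback f k ↘ Spec (CommRingCat.of A))
          (CohB1.tensorMod F₂ (CohB1.tensorPow L₂ n)) := by
        refine TwistFlat.isFlatOver_tensor _ (H23.PicMul.isInvertible_tensorPow hL₂i n) fun x => ?_
        refine FibFlatMod.isFlatOverAt_bc hc (pullback.fst f j) _ (pullback.lift_fst _ _ _) F x (hU _ (hVU ?_))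
        show (pullback.snd f j) (g _) ∈ (V : Set T)
        rw [← hV.range_fromSpec, ← Scheme.Hom.comp_apply, hc.w, Scheme.Hom.comp_apply]
        exact ⟨_, rfl⟩
      obtain ⟨y, hy⟩ : w ∈ Set.range hV.fromSpec := by rw [hV.range_fromSpec]; exact hw
      obtain ⟨a⟩ := H23.PicMul.pull (pullback.fst f k) F (CohB1.tensorPow L n)
      obtain ⟨b⟩ := pullback_tensorPow (pullback.fst f k) L n
      have h1 := (PBC.fiberRank_bc sq (AmpleVan.isCoh_tensor hF (AmpleVan.isCoh_invertible
        (H23.PicMul.isInvertible_tensorPow hLi n))).1 (p + 1) y).symm.trans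
        (PBC.fiberRank_congr π (a ≪≫ PicGrp.tensorModIso (Iso.refl _) b) (p + 1) y)
      have h2 : k y = j w := by rw [← hy]; rfl
      show CohIII.fiberRank f (G n) (p + 1) (j w) = 0
      rw [← h2]
      refine h1.trans ?_
      have hsub := subsingleton_fiberH_of_HH (X := pullback f k) (AmpleVan.isCoh_tensor hF₂
        (AmpleVan.isCoh_invertible (H23.PicMul.isInvertible_tensorPow hL₂i n))) hflat (hN n hn) y p
      unfold CohIII.fiberRank
      exact @Module.finrank_zero_of_subsingleton _ _ _ _ _ _ hsub)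
  exact ⟨N, fun n hn s p => hN s n hn p⟩

/-- Twisted fibre ranks after base change. -/
theorem fiberRank_twist_bc {X S X₁ S₁ : Scheme.{u}} {f : X ⟶ S} {f₁ : X₁ ⟶ S₁} {q : X ⟶ X₁} {ρ : S ⟶ S₁}
    [IsProper f₁] (h : IsPullback q f f₁ ρ) {F L : X₁.Modules} (hF : Coh.IsQCoh F) (hL : PicF.IsInvertible L)
    (n p : ℕ) (s : S) :
    CohIII.fiberRank f (CohB1.tensorMod ((Scheme.Modules.pullback q).obj F)
      (CohB1.tensorPow ((Scheme.Modules.pullback q).obj L) n)) p s =
      CohIII.fiberRank f₁ (CohB1.tensorMod F (CohB1.tensorPow L n)) p (ρ s) := by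
  obtain ⟨a⟩ := H23.PicMul.pull q F (CohB1.tensorPow L n)
  obtain ⟨b⟩ := pullback_tensorPow q L n
  exact (PBC.fiberRank_congr f (a ≪≫ PicGrp.tensorModIso (Iso.refl _) b) p s).symm.trans
    (PBC.fiberRank_bc h (KFlatLib.isQCoh_tensor hF
      (ProjUPX.isQCoh_of_isInvertible (H23.PicMul.isInvertible_tensorPow hL n))) p s)

/-- Uniform Serre vanishing on the fibres over an affine base. -/
theorem exists_uniform_fiberRank_affine {X S : Scheme.{u}} [IsAffine S] (f : X ⟶ S) [IsProper f]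
    [LocallyOfFinitePresentation f] {L : X.Modules} (hL : PicF.IsInvertible L) (ha : CohB1.IsAmple L)
    {F : X.Modules} (hF : CohB1.IsFP F) :
    ∃ N, ∀ n, N ≤ n → ∀ (s : S) (p : ℕ),
      CohIII.fiberRank f (CohB1.tensorMod F (CohB1.tensorPow L n)) (p + 1) s = 0 := by
  obtain ⟨S₁, X₁, ρ, f₁, q, F₁, L₁, _, _, _, sq, hF₁, hL₁, ⟨θF⟩, ⟨θL⟩⟩ := exists_pair_model f F hF L hL
  have hE : ∀ (n p : ℕ) (s : S), CohIII.fiberRank f (CohB1.tensorMod F (CohB1.tensorPow L n)) p s =
      CohIII.fiberRank f₁ (CohB1.tensorMod F₁ (CohB1.tensorPow L₁ n)) p (ρ s) := fun n p s => by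
    obtain ⟨b⟩ : Nonempty (CohB1.tensorPow ((Scheme.Modules.pullback q).obj L₁) n ≅ CohB1.tensorPow L n) :=
      H23.PicMul.cl_eq_iff.1 (by
        rw [H23.PicMul.cl_tensorPow, H23.PicMul.cl_tensorPow, H23.PicMul.cl_eq_iff.2 ⟨θL⟩])
    rw [← fiberRank_twist_bc sq hF₁.1 hL₁]
    exact (PBC.fiberRank_congr f (PicGrp.tensorModIso θF b) p s).symm
  have hfib : ∀ s : S, ∃ V : S₁.Opens, ρ s ∈ V ∧ IsAffineOpen V ∧ CohB1.IsAmple (L₁.restrict (f₁ ⁻¹ᵁ V).ι) := by
    intro s
    obtain ⟨V, hsV, hV⟩ := FibAmple.exists_nhd_ample f₁ hL₁ (ρ s) ((isAmple_fiber_iff sq hL₁ s).2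
      (AmpleX.isAmple_of_iso ((Scheme.Modules.pullback (f.fiberι s)).mapIso θL.symm) (isAmple_fiber ha s)))
    obtain ⟨W, hW, hsW, hWV⟩ := exists_isAffineOpen_mem_and_subset hsV
    exact ⟨W, hsW, hW, hV W hWV hW⟩
  choose V hsV hV hamp using hfib
  obtain ⟨σ, hσ⟩ := (isCompact_range ρ.continuous).elim_finite_subcover (fun s => (V s : Set S₁))
    (fun s => (V s).2) (fun t ⟨s, hs⟩ => Set.mem_iUnion.2 ⟨s, hs ▸ hsV s⟩)
  have hN : ∀ s₀ : S, ∃ N, ∀ n, N ≤ n → ∀ (t : S₁), t ∈ V s₀ → ∀ (p : ℕ),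
      CohIII.fiberRank f₁ (CohB1.tensorMod F₁ (CohB1.tensorPow L₁ n)) (p + 1) t = 0 := fun s₀ => by
    haveI : IsAffine (V s₀ : Scheme.{u}) := hV s₀
    haveI : IsNoetherian (V s₀ : Scheme.{u}) := {}
    let R := Scheme.Modules.restrictFunctorIsoPullback (f₁ ⁻¹ᵁ V s₀).ι
    haveI : IsLocallyNoetherian X₁ := LocallyOfFiniteType.isLocallyNoetherian f₁
    obtain ⟨N, hN⟩ := exists_uniform_fiber_vanishing (f₁ ∣_ V s₀) (PicClLib.isInvertible_pullback _ hL₁)
      ((S4381.result (f₁ ∣_ V s₀) _).2 (AmpleX.isAmple_of_iso (R.app L₁) (hamp s₀)))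
      (ZClosLib.isCoh_pullback (f₁ ⁻¹ᵁ V s₀).ι hF₁)
    exact ⟨N, fun n hn t ht p => (fiberRank_twist_bc (IsPullback.flip (isPullback_morphismRestrict f₁ (V s₀)))
      hF₁.1 hL₁ n (p + 1) ⟨t, ht⟩).symm.trans (hN n hn ⟨t, ht⟩ p)⟩
  choose N hN using hN
  refine ⟨σ.sup N, fun n hn s p => (hE n (p + 1) s).trans ?_⟩
  obtain ⟨s₀, hs₀, hss⟩ := Set.mem_iUnion₂.1 (hσ ⟨s, rfl⟩)
  exact hN s₀ n ((Finset.le_sup hs₀).trans hn) _ hss p

/-- Uniform Serre vanishing on the fibres over a quasi-compact base. -/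
theorem exists_uniform_fiberH {X S : Scheme.{u}} [CompactSpace S] (f : X ⟶ S) [IsProper f]
    [LocallyOfFinitePresentation f] {L : X.Modules} (hLi : PicF.IsInvertible L)
    (hL : RelAmple.IsRelAmple f L) {F : X.Modules} (hF : CohB1.IsFP F) :
    ∃ N, ∀ n, N ≤ n → ∀ (s : S) (p : ℕ),
      Subsingleton (CohIII.fiberH f (CohB1.tensorMod F (CohB1.tensorPow L n)) s (p + 1)) := by
  obtain ⟨σ, hσ⟩ := isCompact_univ.elim_finite_subcover (fun V : S.affineOpens => (V.1 : Set S))
    (fun V => V.1.2) (fun s _ => by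
      obtain ⟨V, hV, hsV, -⟩ := exists_isAffineOpen_mem_and_subset (x := s) (U := ⊤) trivial
      exact Set.mem_iUnion.2 ⟨⟨V, hV⟩, hsV⟩)
  have hmodel : ∀ V : S.affineOpens, ∃ N, ∀ n, N ≤ n → ∀ (s : S), s ∈ V.1 → ∀ (p : ℕ),
      CohIII.fiberRank f (CohB1.tensorMod F (CohB1.tensorPow L n)) (p + 1) s = 0 := fun V => by
    haveI : IsAffine (V.1 : Scheme.{u}) := V.2
    haveI := hL.1
    let R := Scheme.Modules.restrictFunctorIsoPullback (f ⁻¹ᵁ V.1).ι
    obtain ⟨N, hN⟩ := exists_uniform_fiberRank_affine (f ∣_ V.1) (PicClLib.isInvertible_pullback _ hLi)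
      (AmpleX.isAmple_of_iso (R.app L) (hL.2 V)) (ModStLib.isFP_pullback (f ⁻¹ᵁ V.1).ι hF)
    exact ⟨N, fun n hn t ht p => (fiberRank_twist_bc (IsPullback.flip (isPullback_morphismRestrict f V.1))
      (QCoh.isQCoh_of_isFP hF) hLi n (p + 1) ⟨t, ht⟩).symm.trans (hN n hn ⟨t, ht⟩ p)⟩
  choose N hN using hmodel
  refine ⟨σ.sup N, fun n hn s p => subsingleton_fiberH_of_rank f
    (isFP_tensor_invertible hF (H23.PicMul.isInvertible_tensorPow hLi n)) (p + 1) s ?_⟩
  obtain ⟨V, hV, hsV⟩ := Set.mem_iUnion₂.1 (hσ (Set.mem_univ s))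
  exact hN V n ((Finset.le_sup hV).trans hn) s hsV p

end Groth.Agent.HilbSnap

end
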