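import Groth.Agent.LimMod.FPExtend
import Groth.Agent.H23.PicMul
import Groth.Agent.PicClLib.Basic
import Groth.Agent.TwistFlat.H0Flat
import Groth.Agent.ModStLib.FibGrpd
import Groth.Agent.PBC.Betti
import Groth.Agent.Snapper.Multi
import Groth.Agent.FlatMisc.DimConstr
import Groth.Agent.Snapper.DimVanish
import Mathlib.Combinatorics.Nullstellensatz

/-!
# Snapper polynomials of the fibres of a flat module
-/

set_option autoImplicit false
set_option linter.style.haveILetI false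
set_option backward.isDefEq.respectTransparency false
set_option backward.isDefEq.respectTransparency.types false

universe u

open CategoryTheory CategoryTheory.Limits AlgebraicGeometry TopologicalSpace

noncomputable section

namespace Groth.Agent.HilbSnap

open Groth.Agent

variable {X S : Scheme.{u}}

theorem isFP_tensor_invertible {M L : X.Modules} (hM : CohB1.IsFP M) (hL : PicF.IsInvertible L) :
    CohB1.IsFP (CohB1.tensorMod M L) := by
  refine LimMod.isFP_of_fpOn (KFlatLib.isQCoh_tensor (QCoh.isQCoh_of_isFP hM) (ProjUPX.isQCoh_of_isInvertible hL))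
    fun x _ => ?_
  obtain ⟨U, hxU, ⟨φ⟩⟩ := hL x
  obtain ⟨p⟩ := H23.PicMul.pull U.ι M L
  obtain ⟨u₀⟩ := H23.PicMul.unit ((Scheme.Modules.pullback U.ι).obj M)
  let R := Scheme.Modules.restrictFunctorIsoPullback U.ι
  let e : (CohB1.tensorMod M L).restrict U.ι ≅ (Scheme.Modules.pullback U.ι).obj M :=
    R.app _ ≪≫ p ≪≫ PicGrp.tensorModIso (Iso.refl _) ((R.app L).symm ≪≫ φ) ≪≫ u₀
  have hres : CohB1.IsFP ((CohB1.tensorMod M L).restrict U.ι) :=
    (SheafOfModules.isFinitePresentation (R := (U : Scheme.{u}).ringCatSheaf)).prop_of_iso e.symm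
      (ModStLib.isFP_pullback U.ι hM)
  obtain ⟨_, ⟨V, hV, rfl⟩, hxV, -⟩ :=
    U.toScheme.isBasis_affineOpens.exists_subset_of_mem_open (Set.mem_univ (⟨x, hxU⟩ : U.toScheme)) isOpen_univ
  have hV' : IsAffineOpen V := hV
  refine ⟨U.ι ''ᵁ V, hV'.image_of_isOpenImmersion U.ι, ⟨⟨x, hxU⟩, hxV, rfl⟩, le_top, ?_⟩
  letI i1 : Module Γ(X, U.ι ''ᵁ V) Γ((CohB1.tensorMod M L).restrict U.ι, V) :=
    (show Module Γ(U.toScheme, V) Γ((CohB1.tensorMod M L).restrict U.ι, V) from inferInstance)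
  let l : Γ((CohB1.tensorMod M L).restrict U.ι, V) ≃ₗ[Γ(X, U.ι ''ᵁ V)] Γ(CohB1.tensorMod M L, U.ι ''ᵁ V) :=
    { toFun := fun m => m, invFun := fun m => m, left_inv := fun _ => rfl, right_inv := fun _ => rfl,
      map_add' := fun _ _ => rfl
      map_smul' := fun r m => (congrArg (· • (show Γ(CohB1.tensorMod M L, U.ι ''ᵁ V) from m))
        (show (U.ι.appIso V).inv r = r by rw [Scheme.Opens.ι_appIso]; rfl)) }
  haveI : Module.FinitePresentation Γ(X, U.ι ''ᵁ V) Γ((CohB1.tensorMod M L).restrict U.ι, V) :=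
    QCoh.finitePresentation_of_isFP hres hV'
  exact Module.FinitePresentation.of_equiv l

theorem isFP_and_flat_tensorPows (f : X ⟶ S) {F : X.Modules} (hF : CohB1.IsFP F) (hfl : FlatMod.IsFlatOver f F) :
    ∀ {r : ℕ} (L : Fin r → X.Modules), (∀ i, PicF.IsInvertible (L i)) → ∀ n : Fin r → ℕ,
      CohB1.IsFP (Curv2.tensorPows F r L n) ∧ FlatMod.IsFlatOver f (Curv2.tensorPows F r L n)
  | 0, _, _, _ => ⟨hF, hfl⟩
  | _ + 1, _, hL, n =>
    ⟨isFP_tensor_invertible (isFP_and_flat_tensorPows f hF hfl _ (fun _ => hL _) _).1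
        (H23.PicMul.isInvertible_tensorPow (hL _) _),
      TwistFlat.isFlatOver_tensor f (H23.PicMul.isInvertible_tensorPow (hL _) _)
        (isFP_and_flat_tensorPows f hF hfl _ (fun _ => hL _) _).2⟩

theorem pullback_tensorPow {Z : Scheme.{u}} (g : Z ⟶ X) (L : X.Modules) :
    ∀ n : ℕ, Nonempty ((Scheme.Modules.pullback g).obj (CohB1.tensorPow L n) ≅
      CohB1.tensorPow ((Scheme.Modules.pullback g).obj L) n)
  | 0 => PicClLib.nonempty_pullback_structureModule g
  | n + 1 =>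
    let ⟨e⟩ := pullback_tensorPow g L n
    let ⟨p⟩ := H23.PicMul.pull g (CohB1.tensorPow L n) L
    ⟨p ≪≫ PicGrp.tensorModIso e (Iso.refl _)⟩

theorem pullback_tensorPows {Z : Scheme.{u}} (g : Z ⟶ X) (F : X.Modules) :
    ∀ {r : ℕ} (L : Fin r → X.Modules) (n : Fin r → ℕ),
      Nonempty ((Scheme.Modules.pullback g).obj (Curv2.tensorPows F r L n) ≅
        Curv2.tensorPows ((Scheme.Modules.pullback g).obj F) r (fun i => (Scheme.Modules.pullback g).obj (L i)) n)
  | 0, _, _ => ⟨Iso.refl _⟩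
  | r + 1, L, n =>
    let ⟨e⟩ := pullback_tensorPows g F (fun i => L i.castSucc) (fun i => n i.castSucc)
    let ⟨p⟩ := H23.PicMul.pull g (Curv2.tensorPows F r (fun i => L i.castSucc) (fun i => n i.castSucc))
      (CohB1.tensorPow (L (Fin.last r)) (n (Fin.last r)))
    let ⟨q⟩ := pullback_tensorPow g (L (Fin.last r)) (n (Fin.last r))
    ⟨p ≪≫ PicGrp.tensorModIso e q⟩

/-- Polynomials of degree at most `d` agree once they agree on the box `[0, d]^t`. -/
theorem eq_of_box {t d : ℕ} {P Q : MvPolynomial (Fin t) ℚ} (hP : P.totalDegree ≤ d) (hQ : Q.totalDegree ≤ d)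
    (h : ∀ n : Fin t → Fin (d + 1), MvPolynomial.eval (fun i => ((n i : ℕ) : ℚ)) P =
      MvPolynomial.eval (fun i => ((n i : ℕ) : ℚ)) Q) : P = Q := by
  refine sub_eq_zero.1 (MvPolynomial.eq_zero_of_eval_zero_at_prod_finset (P - Q)
    (fun _ => (Finset.univ : Finset (Fin (d + 1))).image fun a : Fin (d + 1) => ((a : ℕ) : ℚ)) (fun i => ?_)
      fun x hx => ?_)
  · rw [Finset.card_image_of_injective _ fun a b h => Fin.ext (by exact_mod_cast h), Finset.card_univ,
      Fintype.card_fin]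
    exact Nat.lt_succ_iff.2 ((MvPolynomial.degreeOf_le_totalDegree _ i).trans
      ((MvPolynomial.totalDegree_sub _ _).trans (max_le hP hQ)))
  · choose a _ ha using fun i => Finset.mem_image.1 (hx i)
    obtain rfl : (fun i => ((a i : ℕ) : ℚ)) = x := funext ha
    rw [map_sub, sub_eq_zero]
    exact h a

/-- Near every point the fibre dimensions of a proper morphism are bounded. -/
theorem exists_nhd_dim_le (f : X ⟶ S) [IsProper f] (s : S) :
    ∃ (U : S.Opens) (d : ℕ), s ∈ U ∧ ∀ s' ∈ U, topologicalKrullDim ↥(f.fiber s') ≤ (d : WithBot ℕ∞) := by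
  have hc : IsCompact (f ⁻¹' {s}) := f.isCompact_preimage_singleton s
  obtain ⟨d, hd⟩ := hc.elim_directed_cover (fun n : ℕ => {x : X | FlatMor.fibreDimAt f x ≤ n})
    (fun n => FibDim.isOpen_fibreDimAt_le f n)
    (fun x _ => by
      obtain ⟨z, -, -, -, he⟩ := FibDim.exists_fibMax_generization f x
      exact Set.mem_iUnion.mpr ⟨FibDim.rd f z, by rw [Set.mem_setOf_eq, he]; rfl⟩)
    (fun a b => ⟨max a b, fun x (hx : FlatMor.fibreDimAt f x ≤ a) => show _ ≤ _ from hx.trans (by exact_mod_cast le_max_left a b),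
      fun x (hx : FlatMor.fibreDimAt f x ≤ b) => show _ ≤ _ from hx.trans (by exact_mod_cast le_max_right a b)⟩)
  refine ⟨⟨(f '' {x : X | FlatMor.fibreDimAt f x ≤ d}ᶜ)ᶜ,
    (f.isClosedMap _ (FibDim.isOpen_fibreDimAt_le f d).isClosed_compl).isOpen_compl⟩, d,
    fun ⟨x, hx, hxs⟩ => hx (hd hxs), fun s' hs' => ?_⟩
  rw [FibDim.topologicalKrullDim_fiber]
  refine iSup_le fun z => (FibDim.fibreDimAt_ge_rd f (specializes_refl _)).trans ?_
  by_contra hz
  exact hs' ⟨z.1, hz, z.2⟩

end Groth.Agent.HilbSnap
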