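import Groth.Agent.HilbSnap.Basic
import Groth.Agent.S1455

/-!
# Finitely many Hilbert polynomials occur among the fibres of a module of finite presentation
-/

set_option autoImplicit false
set_option linter.style.haveILetI false
set_option backward.isDefEq.respectTransparency false
set_option backward.isDefEq.respectTransparency.types false
set_option maxHeartbeats 1000000

universe u

open CategoryTheory CategoryTheory.Limits AlgebraicGeometry TopologicalSpace

noncomputable section

namespace Groth.Agent.HilbSnap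

open Groth.Agent

variable {X S : Scheme.{u}}

theorem eulerChar_congr (f : X ⟶ S) {M N : X.Modules} (e : M ≅ N) (s : S) :
    PerfAux.eulerChar f M s = PerfAux.eulerChar f N s :=
  finsum_congr fun i => by rw [PBC.betti_eq_fiberRank, PBC.betti_eq_fiberRank, PBC.fiberRank_congr f e i s]

theorem eulerChar_bc {X₁ S₁ : Scheme.{u}} {f : X ⟶ S} {f₁ : X₁ ⟶ S₁} {q : X ⟶ X₁} {ρ : S ⟶ S₁}
    [IsProper f₁] (h : IsPullback q f f₁ ρ) {N : X₁.Modules} (hN : Coh.IsQCoh N) (s : S) :
    PerfAux.eulerChar f ((Scheme.Modules.pullback q).obj N) s = PerfAux.eulerChar f₁ N (ρ s) :=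
  finsum_congr fun i => by rw [PBC.betti_eq_fiberRank, PBC.betti_eq_fiberRank, PBC.fiberRank_bc h hN i s]

/-- a compact base has bounded fibre dimensions -/
theorem exists_dim_le [CompactSpace S] (f : X ⟶ S) [IsProper f] :
    ∃ d : ℕ, ∀ s : S, topologicalKrullDim ↥(f.fiber s) ≤ (d : WithBot ℕ∞) := by
  classical
  choose U d hU hd using exists_nhd_dim_le f
  obtain ⟨t, ht⟩ := isCompact_univ.elim_finite_subcover (fun s : S => (U s : Set S)) (fun s => (U s).2)
    (fun s _ => Set.mem_iUnion.2 ⟨s, hU s⟩)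
  refine ⟨t.sup d, fun s => ?_⟩
  obtain ⟨z, hz, hs⟩ := Set.mem_iUnion₂.1 (ht (Set.mem_univ s))
  exact (hd z s hs).trans (by exact_mod_cast Finset.le_sup hz)

/-- Euler characteristics of the fibres of a module of finite presentation take finitely many values -/
theorem finite_range_eulerChar_affine [IsAffine S] (f : X ⟶ S) [IsProper f] [LocallyOfFinitePresentation f]
    (G : X.Modules) (hG : CohB1.IsFP G) : (Set.range fun s : S => PerfAux.eulerChar f G s).Finite := by
  have hq : Coh.IsQCoh G := QCoh.isQCoh_of_isFP hG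
  obtain ⟨t, I, -, hlast, hzero, hfg, hflat⟩ := Groth.Agent.S1455.result f G hq hG
  let J : Fin t → S.IdealSheafData := fun i => I i.castSucc
  let T : ∀ i : Fin t, Scheme.{u} := fun i => ((J i).subschemeι ⁻¹ᵁ (I i.succ).support.compl : (J i).subscheme.Opens)
  let e : ∀ i, T i ⟶ S := fun i => Scheme.Opens.ι ((J i).subschemeι ⁻¹ᵁ (I i.succ).support.compl) ≫ (J i).subschemeι
  have hT : ∀ i, CompactSpace (T i) := fun i => by
    refine isCompact_iff_compactSpace.1 ?_
    refine (J i).subschemeι.isClosedEmbedding.isCompact_preimage (K := ((I i.succ).support : Set S)ᶜ) ?_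
    let U : S.affineOpens := ⟨⊤, isAffineOpen_top S⟩
    obtain ⟨s, hs⟩ := hfg i.succ U
    have hsupp : ((I i.succ).support : Set S) = S.zeroLocus (U := (⊤ : S.Opens)) (↑s : Set Γ(S, ⊤)) := by
      have h1 := (I i.succ).coe_support_inter U
      simp only [U, Opens.coe_top, Set.inter_univ] at h1
      rw [h1, ← hs]
      exact Scheme.zeroLocus_span (X := S) _
    rw [hsupp]
    have : (S.zeroLocus (U := (⊤ : S.Opens)) (↑s : Set Γ(S, ⊤)))ᶜ = ⋃ a ∈ s, (S.basicOpen a : Set S) := by
      ext x
      simp only [Set.mem_compl_iff, Scheme.mem_zeroLocus_iff, not_forall, not_not, Set.mem_iUnion, exists_prop,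
        Finset.mem_coe, SetLike.mem_coe]
      exact ⟨fun ⟨a, ha, hx⟩ => ⟨a, ha, hx⟩, fun ⟨a, ha, hx⟩ => ⟨a, ha, hx⟩⟩
    rw [this]
    exact s.isCompact_biUnion fun a _ => ((isAffineOpen_top S).basicOpen a).isCompact
  have hfin : ∀ i, (Set.range fun z : T i => PerfAux.eulerChar f G (e i z)).Finite := fun i => by
    haveI := hT i
    have hlc := PBC.isLocallyConstant_eulerChar (pullback.snd f (e i))
      ((Scheme.Modules.pullback (pullback.fst f (e i))).obj G) (ModStLib.isFP_pullback _ hG) (hflat i)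
    have heq : (fun z : T i => PerfAux.eulerChar (pullback.snd f (e i))
        ((Scheme.Modules.pullback (pullback.fst f (e i))).obj G) z) = fun z => PerfAux.eulerChar f G (e i z) :=
      funext fun z => eulerChar_bc (IsPullback.of_hasPullback f (e i)) hq z
    rw [heq] at hlc
    exact hlc.range_finite
  refine (Set.finite_iUnion hfin).subset ?_
  rintro _ ⟨s, rfl⟩
  have hlastE : s ∉ ((I (Fin.last t)).support : Set S) := by
    rw [hlast]; simp
  have h0 : s ∈ ((I 0).support : Set S) := by rw [hzero]; exact Set.mem_univ s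
  obtain ⟨i, hi, hi'⟩ : ∃ i : Fin t, s ∈ ((I i.castSucc).support : Set S) ∧ s ∉ ((I i.succ).support : Set S) := by
    by_contra hc
    push Not at hc
    refine hlastE ?_
    suffices ∀ j : Fin (t + 1), s ∈ ((I j).support : Set S) from this _
    intro j
    induction j using Fin.induction with
    | zero => exact h0
    | succ i ih => exact hc i ih
  obtain ⟨z, hz⟩ : s ∈ Set.range (J i).subschemeι := by
    rw [Scheme.IdealSheafData.range_subschemeι]; exact hi
  refine Set.mem_iUnion.2 ⟨i, ⟨⟨z, by show (J i).subschemeι z ∈ (I i.succ).support.compl; rw [hz]; exact hi'⟩, ?_⟩⟩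
  show PerfAux.eulerChar f G _ = PerfAux.eulerChar f G s
  exact congrArg _ hz

/-- Euler characteristics of the fibres over a quasi-compact base take finitely many values -/
theorem finite_range_eulerChar [CompactSpace S] (f : X ⟶ S) [IsProper f] [LocallyOfFinitePresentation f]
    (G : X.Modules) (hG : CohB1.IsFP G) : (Set.range fun s : S => PerfAux.eulerChar f G s).Finite := by
  classical
  have hq : Coh.IsQCoh G := QCoh.isQCoh_of_isFP hG
  obtain ⟨t, ht⟩ := isCompact_univ.elim_finite_subcover (fun V : S.affineOpens => (V.1 : Set S))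
    (fun V => V.1.2) (fun s _ => by
      obtain ⟨_, ⟨V, hV, rfl⟩, hsV, -⟩ :=
        S.isBasis_affineOpens.exists_subset_of_mem_open (Set.mem_univ s) isOpen_univ
      exact Set.mem_iUnion.2 ⟨⟨V, hV⟩, hsV⟩)
  have hfin : ∀ V : S.affineOpens, (Set.range fun z : (V.1 : Scheme.{u}) => PerfAux.eulerChar f G z.1).Finite :=
    fun V => by
    haveI : IsAffine (V.1 : Scheme.{u}) := V.2
    have h := finite_range_eulerChar_affine (f ∣_ V.1) ((Scheme.Modules.pullback (f ⁻¹ᵁ V.1).ι).obj G)
      (ModStLib.isFP_pullback _ hG)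
    have heq : (fun z : (V.1 : Scheme.{u}) => PerfAux.eulerChar (f ∣_ V.1)
        ((Scheme.Modules.pullback (f ⁻¹ᵁ V.1).ι).obj G) z) = fun z => PerfAux.eulerChar f G z.1 :=
      funext fun z => eulerChar_bc (IsPullback.flip (isPullback_morphismRestrict f V.1)) hq z
    rwa [heq] at h
  refine (Set.Finite.biUnion t.finite_toSet fun V _ => hfin V).subset ?_
  rintro _ ⟨s, rfl⟩
  obtain ⟨V, hV, hs⟩ := Set.mem_iUnion₂.1 (ht (Set.mem_univ s))
  exact Set.mem_iUnion₂.2 ⟨V, hV, ⟨⟨s, hs⟩, rfl⟩⟩

/-- finitely many functions `n ↦ χ(X_s, F ⊗ L^n)` occur among the fibres -/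
theorem finite_range_eulerChar_twists [CompactSpace S] (f : X ⟶ S) [IsProper f] [LocallyOfFinitePresentation f]
    {L : X.Modules} (hL : PicF.IsInvertible L) (F : X.Modules) (hF : CohB1.IsFP F) :
    (Set.range fun s : S => fun n : ℕ => PerfAux.eulerChar f (CohB1.tensorMod F (CohB1.tensorPow L n)) s).Finite := by
  classical
  obtain ⟨d, hd⟩ := exists_dim_le f
  have hfin : ∀ n : Fin (d + 1),
      (Set.range fun s : S => PerfAux.eulerChar f (CohB1.tensorMod F (CohB1.tensorPow L n)) s).Finite := fun n =>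
    finite_range_eulerChar f _ (isFP_tensor_invertible hF (H23.PicMul.isInvertible_tensorPow hL _))
  let A := Set.range fun s : S => fun n : ℕ => PerfAux.eulerChar f (CohB1.tensorMod F (CohB1.tensorPow L n)) s
  let r : (ℕ → ℤ) → (Fin (d + 1) → ℤ) := fun φ n => φ n
  refine Set.Finite.of_finite_image (f := r) ((Set.Finite.pi hfin).subset ?_) ?_
  · rintro _ ⟨_, ⟨s, rfl⟩, rfl⟩
    exact fun n _ => ⟨s, rfl⟩
  rintro _ ⟨s, rfl⟩ _ ⟨s', rfl⟩ hss
  have key : ∀ s : S, ∃ P : MvPolynomial (Fin 1) ℚ, P.totalDegree ≤ d ∧ ∀ n : ℕ,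
      (PerfAux.eulerChar f (CohB1.tensorMod F (CohB1.tensorPow L n)) s : ℚ) =
        MvPolynomial.eval (fun _ => (n : ℚ)) P := by
    intro s
    letI : (f.fiber s).Over (Spec (CommRingCat.of (S.residueField s : Type u))) := ⟨f.fiberToSpecResidueField s⟩
    haveI : IsProper (f.fiber s ↘ Spec (CommRingCat.of (S.residueField s : Type u))) :=
      inferInstanceAs (IsProper (pullback.snd f (S.fromSpecResidueField s)))
    haveI : IsLocallyNoetherian (f.fiber s) :=
      LocallyOfFiniteType.isLocallyNoetherian (f.fiber s ↘ Spec (CommRingCat.of (S.residueField s : Type u)))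
    let g := f.fiberι s
    obtain ⟨P, hP, hPn⟩ := Snapper.exists_mpoly (S.residueField s : Type u)
      (L := fun _ : Fin 1 => (Scheme.Modules.pullback g).obj L)
      (fun _ => PicClLib.isInvertible_pullback g hL)
      (QCoh.isCoh_iff_isFP.2 (ModStLib.isFP_pullback g hF))
      ((Topology.IsInducing.subtypeVal.topologicalKrullDim_le).trans (hd s))
    refine ⟨P, hP, fun n => ?_⟩
    rw [← hPn fun _ => n]
    obtain ⟨e⟩ := pullback_tensorPows g F (r := 1) (fun _ => L) (fun _ => n)
    exact congrArg (fun z : ℤ => (z : ℚ)) (CurveCohLib.euler_congr (k := (S.residueField s : Type u)) e)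
  obtain ⟨P, hP, hPn⟩ := key s
  obtain ⟨Q, hQ, hQn⟩ := key s'
  have hPQ : P = Q := eq_of_box hP hQ fun n => by
    have hn : ∀ i : Fin 1, n i = n 0 := fun i => by rw [Subsingleton.elim i 0]
    simp only [hn]
    rw [← hPn, ← hQn]
    exact congrArg (fun z : ℤ => (z : ℚ)) (congrFun hss (n 0))
  funext n
  exact Int.cast_injective (α := ℚ) ((hPn n).trans (hPQ ▸ (hQn n).symm))

end Groth.Agent.HilbSnap

end
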