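import Groth.Agent.HilbSnap.HighFibre
import Groth.Agent.HilbSnap.FiniteRange
import Groth.Agent.S0034

/-!
# Euler characteristics of high twists on the closed and the generic fibre over a local domain
-/

set_option autoImplicit false
set_option linter.style.haveILetI false
set_option linter.unusedSectionVars false
set_option backward.isDefEq.respectTransparency false
set_option backward.isDefEq.respectTransparency.types false
set_option maxHeartbeats 1000000
set_option synthInstance.maxHeartbeats 400000

universe u v

open CategoryTheory CategoryTheory.Limits AlgebraicGeometry TopologicalSpace Opposite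
open scoped TensorProduct

noncomputable section

namespace Groth.Agent.HilbSnap

open Groth.Agent

section Algebra

variable {A : Type u} [CommRing A] {κ : Type u} [Field κ] {V : Type u} [AddCommGroup V] [Module A V]
  {W : Type v} [AddCommGroup W] [Module κ W]

/-- The fibre of a finite module over a local ring has dimension the minimal number of generators. -/
theorem spanFinrank_eq_of_residue [IsLocalRing A] [Module.Finite A V] (φ : A →+* κ) (hφ : Function.Surjective φ)
    (g : V →+ W) (hg : Function.Surjective g) (hsm : ∀ a x, g (a • x) = φ a • g x)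
    (hker : ∀ x, g x = 0 → x ∈ IsLocalRing.maximalIdeal A • (⊤ : Submodule A V)) :
    (⊤ : Submodule A V).spanFinrank = Module.finrank κ W := by
  classical
  obtain ⟨s, hs, hspan⟩ := (Module.Finite.fg_top (R := A) (M := V)).exists_span_finset_card_eq_spanFinrank
  have hW : Submodule.span κ (g '' (s : Set V)) = ⊤ := by
    refine eq_top_iff.2 fun w hw0 => ?_
    clear hw0
    obtain ⟨x, rfl⟩ := hg w
    have hx : x ∈ Submodule.span A (s : Set V) := hspan ▸ Submodule.mem_top
    induction hx using Submodule.span_induction with
    | mem x hx => exact Submodule.subset_span ⟨x, hx, rfl⟩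
    | zero => rw [map_zero]; exact zero_mem _
    | add x y _ _ hx hy => rw [map_add]; exact add_mem hx hy
    | smul a x _ hx => rw [hsm]; exact Submodule.smul_mem _ _ hx
  haveI : Module.Finite κ W := ⟨⟨s.image g, by rw [Finset.coe_image, hW]⟩⟩
  refine le_antisymm ?_ ?_
  · let B := Module.finBasis κ W
    choose v hv using fun j => hg (B j)
    let N := Submodule.span A (Set.range v)
    suffices hN : (⊤ : Submodule A V) ≤ N by
      rw [← eq_top_iff.2 hN]
      refine (Submodule.spanFinrank_span_le_ncard_of_finite (Set.finite_range v)).trans ?_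
      rw [← Set.image_univ]
      exact (Set.ncard_image_le Set.finite_univ).trans (by rw [Set.ncard_univ, Nat.card_eq_fintype_card, Fintype.card_fin])
    refine Submodule.le_of_le_smul_of_le_jacobson_bot Module.Finite.fg_top
      (IsLocalRing.maximalIdeal_le_jacobson (⊥ : Ideal A)) fun x _ => ?_
    choose c hc using fun j => hφ (B.repr (g x) j)
    refine Submodule.mem_sup.2 ⟨∑ j, c j • v j, Submodule.sum_mem _ fun j _ =>
      Submodule.smul_mem _ _ (Submodule.subset_span ⟨j, rfl⟩), x - ∑ j, c j • v j, hker _ ?_, add_sub_cancel _ _⟩
    simp only [map_sub, map_sum, hsm, hv, hc, B.sum_repr, sub_self]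
  · rw [← hs]
    calc Module.finrank κ W = Module.finrank κ (⊤ : Submodule κ W) := (finrank_top κ W).symm
      _ ≤ (s.image g).card := by
        rw [← hW, ← Finset.coe_image]
        exact finrank_span_finset_le_card _
      _ ≤ s.card := Finset.card_image_le

/-- The rank after a change to a field is at most the minimal number of generators. -/
theorem finrank_baseChange_le_spanFinrank [Algebra A κ] [Module.Finite A V] :
    Module.finrank κ (κ ⊗[A] V) ≤ (⊤ : Submodule A V).spanFinrank := by
  classical
  obtain ⟨s, hs, hspan⟩ := (Module.Finite.fg_top (R := A) (M := V)).exists_span_finset_card_eq_spanFinrank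
  have hW : Submodule.span κ ((TensorProduct.mk A κ V 1) '' (s : Set V)) = ⊤ := by
    rw [← Submodule.baseChange_span, hspan, Submodule.baseChange_top]
  rw [← finrank_top, ← hW, ← hs, ← Finset.coe_image]
  exact (finrank_span_finset_le_card _).trans Finset.card_image_le

end Algebra

variable {A : Type u} [CommRing A] {X : Scheme.{u}} [X.Over (Spec (CommRingCat.of A))]

local notation "π" => (X ↘ Spec (CommRingCat.of A))

/-- The residue map at a point of the spectrum. -/
def resHom (x : Spec (CommRingCat.of A)) : A →+* (Spec (CommRingCat.of A)).residueField x :=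
  (CommRingCat.ofHom (algebraMap A x.asIdeal.ResidueField) ≫
    (Scheme.Spec.residueFieldIso (CommRingCat.of A) x).inv).hom

theorem specMap_resHom (x : Spec (CommRingCat.of A)) :
    Spec.map (CommRingCat.ofHom (resHom x)) = (Spec (CommRingCat.of A)).fromSpecResidueField x :=
  (Spec.map_comp _ _).trans (Scheme.Spec.map_residueFieldIso_inv_eq_fromSpecResidueField (CommRingCat.of A) x)

theorem surjective_resHom (x : Spec (CommRingCat.of A)) [x.asIdeal.IsMaximal] :
    Function.Surjective (resHom x) :=
  ((ConcreteCategory.bijective_of_isIso (Scheme.Spec.residueFieldIso (CommRingCat.of A) x).inv).2).comp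
    x.asIdeal.algebraMap_residueField_surjective

theorem isPullback_resHom (x : Spec (CommRingCat.of A)) :
    IsPullback ((π).fiberι x) ((π).fiberToSpecResidueField x) π (Spec.map (CommRingCat.ofHom (resHom x))) := by
  rw [specMap_resHom]
  exact IsPullback.of_hasPullback _ _

theorem toGlobal_fiber (x : Spec (CommRingCat.of A)) (a : A) :
    ((π).fiberι x).appTop (Coh.toGlobal π a) = Coh.toGlobal ((π).fiberToSpecResidueField x) (resHom x a) := by
  show ((π).fiberι x).appTop ((π).appTop ((Scheme.ΓSpecIso (CommRingCat.of A)).inv a)) = _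
  rw [← ConcreteCategory.comp_apply, ← Scheme.Hom.comp_appTop, (isPullback_resHom x).w,
    Scheme.Hom.comp_appTop, ConcreteCategory.comp_apply]
  exact congrArg ((π).fiberToSpecResidueField x).appTop
    (congr(($((Scheme.ΓSpecIso_inv_naturality (CommRingCat.ofHom (resHom x))))) a)).symm

theorem fiberH_smul (T : X.Modules) (x : Spec (CommRingCat.of A)) (a : A) (p : ℕ)
    (w : Coh.HH ((π).fiber x) ((Scheme.Modules.pullback ((π).fiberι x)).obj T) p) :
    (letI := QCoh.modHH (((π).fiberι x).appTop.hom.comp (Coh.toGlobal π))
        ((Scheme.Modules.pullback ((π).fiberι x)).obj T) p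
     a • w) =
    (letI : ((π).fiber x).Over (Spec (CommRingCat.of ((Spec (CommRingCat.of A)).residueField x : Type u))) :=
        ⟨(π).fiberToSpecResidueField x⟩
     resHom x a • w) :=
  congrArg (fun r : Coh.Γtop ((π).fiber x) => r • w) (toGlobal_fiber x a)

theorem eulerChar_eq_betti_zero {S : Scheme.{u}} (f : X ⟶ S) (T : X.Modules) (s : S)
    (h : ∀ p, Subsingleton (Coh.HH (f.fiber s) ((Scheme.Modules.pullback (f.fiberι s)).obj T) (p + 1))) :
    PerfAux.eulerChar f T s = PerfAux.betti f T s 0 := by
  unfold PerfAux.eulerChar
  rw [finsum_eq_single _ 0]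
  · simp
  · intro i hi
    obtain ⟨p, rfl⟩ := Nat.exists_eq_succ_of_ne_zero hi
    haveI : Subsingleton (PerfAux.fiberH f T s (p + 1)) := h p
    have : PerfAux.betti f T s (p + 1) = 0 := Module.finrank_zero_of_subsingleton
    rw [this, Nat.cast_zero, mul_zero]

/-- The Euler characteristic at a point with flat residue map. -/
theorem eulerChar_of_flat_point [IsProper π] (T : X.Modules) [Coh.IsQCoh T] (x : Spec (CommRingCat.of A))
    (hfl : (resHom x).Flat) (h : ∀ p, Subsingleton (Coh.HH X T (p + 1))) :
    PerfAux.eulerChar π T x = (letI := (resHom x).toAlgebra;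
      (Module.finrank ((Spec (CommRingCat.of A)).residueField x)
        (((Spec (CommRingCat.of A)).residueField x : Type u) ⊗[A] Coh.HH X T 0) : ℤ)) := by
  haveI : CompactSpace X := QuasiCompact.compactSpace_of_compactSpace π
  haveI : QuasiSeparatedSpace X := quasiSeparatedSpace_of_quasiSeparated π
  letI := (resHom x).toAlgebra
  haveI : Module.Flat A ((Spec (CommRingCat.of A)).residueField x) := hfl
  letI : ((π).fiber x).Over (Spec (CommRingCat.of ((Spec (CommRingCat.of A)).residueField x : Type u))) :=
    ⟨(π).fiberToSpecResidueField x⟩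
  have key := fun i => S0034.result A ((Spec (CommRingCat.of A)).residueField x : Type u) X ((π).fiber x)
    ((π).fiberι x) (isPullback_resHom x) T i
  refine (eulerChar_eq_betti_zero π T x fun p => ?_).trans ?_
  · obtain ⟨E⟩ := key (p + 1)
    haveI := h p
    haveI : Subsingleton (((Spec (CommRingCat.of A)).residueField x : Type u) ⊗[A] Coh.HH X T (p + 1)) :=
      subsingleton_of_forall_eq 0 fun t => by
        induction t using TensorProduct.induction_on with
        | zero => rfl
        | tmul a m => rw [Subsingleton.elim m 0, TensorProduct.tmul_zero]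
        | add a b ha hb => rw [ha, hb, add_zero]
    exact E.symm.toEquiv.subsingleton
  · obtain ⟨E⟩ := key 0
    exact congrArg Nat.cast E.finrank_eq.symm

/-- Over a Noetherian local domain, for high twists the closed fibre counts the generators of the
sections and the generic fibre their rank. -/
theorem exists_eulerChar_eq [IsNoetherianRing A] [IsLocalRing A] [IsDomain A] [IsProper π] {L : X.Modules}
    (hL : PicF.IsInvertible L)
    (ha : CohB1.IsAmple ((Scheme.Modules.pullback ((π).fiberι (IsLocalRing.closedPoint A))).obj L))
    {M : X.Modules} (hM : Coh.IsCoh M) :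
    ∃ N, ∀ n, N ≤ n →
      PerfAux.eulerChar π (CohB1.tensorMod M (CohB1.tensorPow L n)) (IsLocalRing.closedPoint A) =
        ((⊤ : Submodule A (Coh.HH X (CohB1.tensorMod M (CohB1.tensorPow L n)) 0)).spanFinrank : ℤ) ∧
      PerfAux.eulerChar π (CohB1.tensorMod M (CohB1.tensorPow L n)) (⊥ : PrimeSpectrum A) =
        (Module.finrank (FractionRing A) (FractionRing A ⊗[A] Coh.HH X (CohB1.tensorMod M (CohB1.tensorPow L n)) 0) : ℤ) := by
  haveI : IsLocallyNoetherian X := LocallyOfFiniteType.isLocallyNoetherian π
  haveI : CompactSpace X := QuasiCompact.compactSpace_of_compactSpace π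
  haveI : QuasiSeparatedSpace X := quasiSeparatedSpace_of_quasiSeparated π
  let c : Spec (CommRingCat.of A) := IsLocalRing.closedPoint A
  haveI : c.asIdeal.IsMaximal := IsLocalRing.maximalIdeal.isMaximal A
  obtain ⟨q, sq⟩ := AmpleVan.exists_isPullback_fiber (A := A) X
  obtain ⟨N, hN⟩ := exists_high_fibre sq hL (fun C hC => FibAmple.exists_vanishing sq hL ha hC) hM
  refine ⟨N, fun n hn => ?_⟩
  let T := CohB1.tensorMod M (CohB1.tensorPow L n)
  have hTc : Coh.IsCoh T := AmpleVan.isCoh_tensor hM (AmpleVan.isCoh_invertible (InvX.isInvertible_tensorPow hL n))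
  haveI : Coh.IsQCoh T := hTc.1
  haveI : Module.Finite A (Coh.HH X T 0) := Groth.Agent.S0002.result A X T hTc 0
  obtain ⟨hX, hZ, g, hgs, hgk⟩ := hN n hn
  refine ⟨?_, ?_⟩
  · refine (eulerChar_eq_betti_zero π T c hZ).trans (congrArg Nat.cast ?_)
    refine (spanFinrank_eq_of_residue (V := Coh.HH X T 0) (W := PerfAux.fiberH π T c 0) (resHom c)
      (surjective_resHom c) g.toAddMonoidHom hgs (fun a x => ?_) fun x hx => ?_).symm
    · exact (g.map_smul a x).trans (fiberH_smul T c a 0 (g x))
    · exact hgk.le hx
  · let K := FractionRing A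
    let gK := Spec.map (CommRingCat.ofHom (algebraMap A K))
    let f' := pullback.snd π gK
    letI : (pullback π gK).Over (Spec (CommRingCat.of K)) := ⟨f'⟩
    haveI : IsProper (pullback π gK ↘ Spec (CommRingCat.of K)) := inferInstanceAs (IsProper (pullback.snd π gK))
    let z : Spec (CommRingCat.of K) := IsLocalRing.closedPoint K
    have hz : gK z = (⊥ : PrimeSpectrum A) := PrimeSpectrum.ext
      ((congrArg (Ideal.comap (algebraMap A K)) IsLocalRing.maximalIdeal_eq_bot).trans
        (Ideal.comap_bot_of_injective _ (IsFractionRing.injective A K)))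
    have sqK := IsPullback.of_hasPullback π gK
    let TK := (Scheme.Modules.pullback (pullback.fst π gK)).obj T
    haveI : Coh.IsQCoh TK := QCoh.isQCoh_pullback _ hTc.1
    have hK : ∀ p, Subsingleton (Coh.HH (pullback π gK) TK (p + 1)) := fun p => by
      obtain ⟨E⟩ := S0034.result A K X (pullback π gK) (pullback.fst π gK) sqK T (p + 1)
      haveI := hX p
      haveI : Subsingleton (K ⊗[A] Coh.HH X T (p + 1)) :=
        subsingleton_of_forall_eq 0 fun t => by
          induction t using TensorProduct.induction_on with
          | zero => rfl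
          | tmul a m => rw [Subsingleton.elim m 0, TensorProduct.tmul_zero]
          | add a b ha hb => rw [ha, hb, add_zero]
      exact E.symm.toEquiv.subsingleton
    have h1 := eulerChar_bc sqK hTc.1 z
    rw [hz] at h1
    have h2 := eulerChar_of_flat_point (X := pullback π gK) TK z
      (by letI := (resHom z).toAlgebra; exact (inferInstance : Module.Flat K ((Spec (CommRingCat.of K)).residueField z))) hK
    refine h1.symm.trans (h2.trans (congrArg Nat.cast ?_))
    letI := (resHom z).toAlgebra
    obtain ⟨E⟩ := S0034.result A K X (pullback π gK) (pullback.fst π gK) sqK T 0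
    exact (Module.finrank_baseChange (R := ((Spec (CommRingCat.of K)).residueField z : Type u)) (S := K)
      (M' := Coh.HH (pullback π gK) TK 0)).trans E.finrank_eq.symm

end Groth.Agent.HilbSnap

end
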