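import Groth.Agent.HilbSnap.UniformVan
import Groth.Agent.PBC.Top
import Groth.Agent.TwistFlat.Main
import Groth.Agent.AmpleX.Rel

/-!
# Flatness and local freeness of the direct images of high twists
-/

set_option autoImplicit false
set_option linter.style.haveILetI false
set_option backward.isDefEq.respectTransparency false
set_option backward.isDefEq.respectTransparency.types false
set_option maxHeartbeats 1000000
set_option synthInstance.maxHeartbeats 400000

universe u

open CategoryTheory CategoryTheory.Limits AlgebraicGeometry TopologicalSpace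

noncomputable section

namespace Groth.Agent.HilbSnap

open Groth.Agent Groth.Agent.TwistFlat Groth.Agent.H23.PicMul

variable {X S : Scheme.{u}}

/-- High twists of a flat module push forward to finite locally free modules. -/
theorem exists_forall_isFinLocFree_push [CompactSpace S] (f : X ⟶ S) [IsProper f] [LocallyOfFinitePresentation f]
    {L : X.Modules} (hL : RelAmple.IsRelAmple f L) {F : X.Modules} (hF : CohB1.IsFP F)
    (hfl : FlatMod.IsFlatOver f F) :
    ∃ N : ℕ, ∀ n : ℕ, N ≤ n →
      FlatMod.IsFinLocFree ((Coh.push f).obj (CohB1.tensorMod F (CohB1.tensorPow L n))) := by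
  have hLi := AmpleX.isInvertible_of_isRelAmple hL
  obtain ⟨N, hN⟩ := exists_uniform_fiberH f hLi hL hF
  exact ⟨N, fun n hn => PBC.isFinLocFree_of_restrict_top (PBC.isFinLocFree_and_isIso_bc0 f
    (isFP_tensor_invertible hF (H23.PicMul.isInvertible_tensorPow hLi n))
    (TwistFlat.isFlatOver_tensor _ (H23.PicMul.isInvertible_tensorPow hLi n) hfl) ⊤
    fun s _ => Or.inr (hN n hn s 0)).1⟩

/-- If the high twists push forward to flat modules then the module is flat. -/
theorem isFlatOver_of_isFlat_push (f : X ⟶ S) [IsProper f]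
    {L : X.Modules} (hL : RelAmple.IsRelAmple f L) {F : X.Modules} (hF : Coh.IsQCoh F) (N₀ : ℕ)
    (h : ∀ n, N₀ ≤ n → FlatMod.IsFlat ((Coh.push f).obj (CohB1.tensorMod F (CohB1.tensorPow L n)))) :
    FlatMod.IsFlatOver f F := fun x => by
  obtain ⟨V, hV, hxV, -⟩ := exists_isAffineOpen_mem_and_subset (x := f x) (U := ⊤) trivial
  let W : X.Opens := f ⁻¹ᵁ V
  letI : W.toScheme.Over (Spec (CommRingCat.of Γ(S, V))) := ⟨QCoh.overSpec f hV⟩
  haveI : IsProper (W.toScheme ↘ Spec (CommRingCat.of Γ(S, V))) :=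
    inferInstanceAs (IsProper ((f ∣_ V) ≫ hV.isoSpec.hom))
  haveI : CompactSpace W.toScheme := AmpleVan.compactSpace_of_proper (A := Γ(S, V))
  haveI := AmpleVan.isSeparated_of_proper (X := W.toScheme) (A := Γ(S, V))
  obtain ⟨hM, -, hM'⟩ := AmpleX.isAmple_iff.1 (hL.2 ⟨V, hV⟩)
  obtain ⟨a, ha, s, hxs, haff⟩ := hM' ⟨x, hxV⟩
  let ρ : Γ(S, V) →+* Γ(W.toScheme, ⊤) := Coh.toGlobal (QCoh.overSpec f hV)
  have hLi := AmpleX.isInvertible_of_isRelAmple hL
  have hsec := flat_sections_genLocus ρ (QCoh.isQCoh_restrict W.ι hF) (InvX.isInvertible_tensorPow hM a) s haff N₀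
    fun n hn E ⟨φ⟩ => by
      have hle : N₀ ≤ a * n := le_trans hn (Nat.le_mul_of_pos_left n ha)
      obtain ⟨ψ⟩ : Nonempty ((CohB1.tensorMod F (CohB1.tensorPow L (a * n))).restrict W.ι ≅ E) := cl_eq_iff.1 (by
        rw [← S4474.cl_restrict_twist, ← cl_eq_iff.2 ⟨φ⟩, cl_tensor, cl_tensor, cl_tensorPow, cl_tensorPow,
          cl_tensorPow, pow_mul])
      refine flat_sections_of_iso ρ ψ ⊤ ((flat_top_iff f hV _).2 ?_)
      exact (flat_sections_iff (QCoh.isQCoh_pushforward f (KFlatLib.isQCoh_tensor hF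
        (ProjUPX.isQCoh_of_isInvertible (H23.PicMul.isInvertible_tensorPow hLi _)))) hV).2
        fun y _ => (KFlatLib.isFlatOver_id_iff _).2 (h _ hle) y
  exact isFlatOverAt_of_secModule f hV hF haff hsec x ⟨⟨x, hxV⟩, hxs, rfl⟩

end Groth.Agent.HilbSnap

end
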