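import Groth.Agent.PBC.Vanish

/-!
# Exactness of bounded below complexes of projectives survives base change
-/

set_option autoImplicit false
set_option linter.style.haveILetI false
set_option backward.isDefEq.respectTransparency false
set_option backward.isDefEq.respectTransparency.types false
set_option maxHeartbeats 1000000

universe u

open CategoryTheory CategoryTheory.Limits
open scoped TensorProduct

noncomputable section

namespace Groth.Agent.HilbSnap

open Groth.Agent

variable {R : Type u} [CommRing R] (P : ChainComplex (ModuleCat.{u} R) ℤ)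

theorem apply_dd (a q b : ℤ) (x : P.X a) : (P.d q b).hom ((P.d a q).hom x) = 0 :=
  DFunLike.congr_fun (PBC.d_comp_hom (P := P) a q b) x

/-- A bounded below complex of projectives which is exact below zero is split there. -/
theorem exists_contraction (hproj : ∀ i, Module.Projective R (P.X i)) {c : ℤ}
    (hc : ∀ i, i < c → IsZero (P.X i)) (h : ∀ q : ℤ, q < 0 → P.ExactAt q) (n : ℕ) :
    ∀ q : ℤ, q < c + n → q < 0 → ∃ (H : P.X q →ₗ[R] P.X (q + 1)) (H' : P.X (q - 1) →ₗ[R] P.X q),
      ∀ x : P.X q, (P.d (q + 1) q).hom (H x) + H' ((P.d q (q - 1)).hom x) = x := by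
  induction n with
  | zero =>
    intro q hq _
    haveI := ModuleCat.subsingleton_of_isZero (hc q (by omega))
    exact ⟨0, 0, fun x => Subsingleton.elim _ _⟩
  | succ n ih =>
    intro q hq hq0
    by_cases hlt : q < c + n
    · exact ih q hlt hq0
    obtain ⟨H, H', hH⟩ := ih (q - 1) (by omega) (by omega)
    have key : ∀ (r : ℤ), r = q → ∀ (H : P.X (q - 1) →ₗ[R] P.X r),
        (∀ x : P.X (q - 1), (P.d r (q - 1)).hom (H x) + H' ((P.d (q - 1) (q - 1 - 1)).hom x) = x) →
        ∃ (H₁ : P.X q →ₗ[R] P.X (q + 1)) (H₂ : P.X (q - 1) →ₗ[R] P.X q),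
          ∀ x : P.X q, (P.d (q + 1) q).hom (H₁ x) + H₂ ((P.d q (q - 1)).hom x) = x := by
      intro r hr H hH
      subst r
      let d := (P.d (q + 1) q).hom
      let π : P.X q →ₗ[R] P.X q := LinearMap.id - H ∘ₗ (P.d q (q - 1)).hom
      have hex := h q hq0
      rw [HomologicalComplex.exactAt_iff' _ (q + 1) q (q - 1) (by simp) (by simp),
        ShortComplex.moduleCat_exact_iff] at hex
      change ∀ y : P.X q, P.d q (q - 1) y = 0 → ∃ x : P.X (q + 1), P.d (q + 1) q x = y at hex
      have hπ : ∀ x, π x ∈ LinearMap.range d := fun x => hex _ (by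
        show (P.d q (q - 1)).hom (x - H ((P.d q (q - 1)).hom x)) = 0
        have h1 := hH ((P.d q (q - 1)).hom x)
        rw [apply_dd, map_zero, add_zero] at h1
        rw [map_sub, h1, sub_self])
      haveI := hproj q
      obtain ⟨σ, hσ⟩ := Module.projective_lifting_property d.rangeRestrict (LinearMap.codRestrict _ π hπ)
        (LinearMap.surjective_rangeRestrict d)
      refine ⟨σ, H, fun x => ?_⟩
      have h1 : d (σ x) = π x := congrArg Subtype.val (DFunLike.congr_fun hσ x)
      show d (σ x) + _ = x
      rw [h1]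
      exact sub_add_cancel _ _
    exact key (q - 1 + 1) (by omega) H hH

/-- Exactness below zero of a bounded below complex of projectives survives base change. -/
theorem exactAt_bcCx (hproj : ∀ i, Module.Projective R (P.X i)) {c : ℤ} (hc : ∀ i, i < c → IsZero (P.X i))
    (h : ∀ q : ℤ, q < 0 → P.ExactAt q) {B : Type u} [CommRing B] (φ : R →+* B) {q : ℤ} (hq : q < 0) :
    (CohIII.bcCx φ P).ExactAt q := by
  letI := φ.toAlgebra
  obtain ⟨H, H', hH⟩ := exists_contraction P hproj hc h (q - c + 1).toNat q (by omega) hq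
  let K := CohIII.bcCx φ P
  rw [HomologicalComplex.exactAt_iff' _ (q + 1) q (q - 1) (by simp) (by simp),
    ShortComplex.moduleCat_exact_iff]
  change ∀ y : K.X q, K.d q (q - 1) y = 0 → ∃ x : K.X (q + 1), K.d (q + 1) q x = y
  intro (y : B ⊗[R] P.X q) hy
  have e : (((P.d (q + 1) q).hom ∘ₗ H) + H' ∘ₗ (P.d q (q - 1)).hom : P.X q →ₗ[R] P.X q) = LinearMap.id :=
    LinearMap.ext hH
  have e' := congrArg (LinearMap.baseChange B) e
  rw [LinearMap.baseChange_add, LinearMap.baseChange_comp, LinearMap.baseChange_comp, LinearMap.baseChange_id] at e'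
  refine ⟨H.baseChange B y, ?_⟩
  have e'' : (P.d (q + 1) q).hom.baseChange B (H.baseChange B y) +
      H'.baseChange B ((P.d q (q - 1)).hom.baseChange B y) = y := DFunLike.congr_fun e' y
  have hy' : (P.d q (q - 1)).hom.baseChange B y = 0 := hy
  exact (((add_zero _).symm.trans (congrArg _ (map_zero (H'.baseChange B)).symm)).trans
    (congrArg (fun z => (P.d (q + 1) q).hom.baseChange B (H.baseChange B y) + H'.baseChange B z) hy'.symm)).trans e''

end Groth.Agent.HilbSnap

end
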