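import Groth.Agent.HilbSnap.HighEuler
import Groth.Agent.TwistFlat.Converse
import Groth.Agent.TwistFlat.Main
import Groth.Agent.AmpleVan.Pull

/-!
# Flatness over the base from flatness of the sections of high twists
-/

set_option autoImplicit false
set_option linter.style.haveILetI false
set_option linter.unusedSectionVars false
set_option backward.isDefEq.respectTransparency false
set_option backward.isDefEq.respectTransparency.types false
set_option maxHeartbeats 1000000
set_option synthInstance.maxHeartbeats 400000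

universe u

open CategoryTheory CategoryTheory.Limits AlgebraicGeometry TopologicalSpace Opposite
open scoped TensorProduct
open Groth.Agent.H23.PicMul

noncomputable section

namespace Groth.Agent.HilbSnap

open Groth.Agent

variable {A : Type u} [CommRing A] {X : Scheme.{u}} [X.Over (Spec (CommRingCat.of A))]

local notation "π" => (X ↘ Spec (CommRingCat.of A))

/-- Flat sections of all high twists of an ample module give flatness over the base. -/
theorem isFlatOver_of_flat_HH [CompactSpace X] [X.IsSeparated] {L : X.Modules} (hL : CohB1.IsAmple L)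
    {F : X.Modules} (hF : Coh.IsQCoh F) (N₀ : ℕ)
    (h : ∀ n, N₀ ≤ n → Module.Flat A (Coh.HH X (CohB1.tensorMod F (CohB1.tensorPow L n)) 0)) :
    FlatMod.IsFlatOver π F := fun x => by
  obtain ⟨hM, -, hM'⟩ := AmpleX.isAmple_iff.1 hL
  obtain ⟨a, ha, s, hxs, haff⟩ := hM' x
  let ρ : A →+* Γ(X, ⊤) := Coh.toGlobal π
  let G := CohB1.genLocus (CohB1.tensorPow L a) s
  have hsec := TwistFlat.flat_sections_genLocus ρ hF (InvX.isInvertible_tensorPow hM a) s haff N₀
    fun n hn E ⟨φ⟩ => by
      have hle : N₀ ≤ a * n := le_trans hn (Nat.le_mul_of_pos_left n ha)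
      obtain ⟨ψ⟩ : Nonempty (CohB1.tensorMod F (CohB1.tensorPow L (a * n)) ≅ E) := cl_eq_iff.1 (by
        rw [← cl_eq_iff.2 ⟨φ⟩, cl_tensor, cl_tensor, cl_tensorPow, cl_tensorPow, cl_tensorPow, pow_mul])
      exact TwistFlat.flat_sections_of_iso ρ ψ ⊤ (TwistFlat.flat_top_of_flat_HH _ (h _ hle))
  have hU : IsAffineOpen (⊤ : (Spec (CommRingCat.of A)).Opens) := isAffineOpen_top _
  refine (QCoh.flat_appLE_iff π hF (U := G) haff hU (fun _ _ => trivial)).1 ?_ x hxs
  letI modA : Module A Γ(F, G) := QCoh.secModule ρ F G
  letI modT : Module Γ(Spec (CommRingCat.of A), ⊤) Γ(F, G) :=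
    Module.compHom _ ((π).appLE ⊤ G (fun _ _ => trivial)).hom
  refine TwistFlat.flat_of_compHom modA modT
    (Scheme.ΓSpecIso (CommRingCat.of A)).hom.hom
    (ConcreteCategory.bijective_of_isIso (Scheme.ΓSpecIso (CommRingCat.of A)).hom) (fun c m => ?_) hsec
  show ((π).appLE ⊤ G _).hom c • m =
    (X.presheaf.map (homOfLE (le_top : G ≤ ⊤)).op).hom ((π).appTop
      ((Scheme.ΓSpecIso (CommRingCat.of A)).inv ((Scheme.ΓSpecIso (CommRingCat.of A)).hom c))) • m
  rw [(Scheme.ΓSpecIso (CommRingCat.of A)).hom_inv_id_apply]
  rfl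

/-- A finite module over a local domain whose rank is the number of its generators is free. -/
theorem flat_of_spanFinrank_eq {V : Type u} [AddCommGroup V] [Module A V] [Module.Finite A V] [IsDomain A]
    (h : (⊤ : Submodule A V).spanFinrank = Module.finrank (FractionRing A) (FractionRing A ⊗[A] V)) :
    Module.Flat A V := by
  classical
  obtain ⟨s, hs, hspan⟩ := (Module.Finite.fg_top (R := A) (M := V)).exists_span_finset_card_eq_spanFinrank
  let g : (s → A) →ₗ[A] V := Fintype.linearCombination A (fun i : s => (i : V))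
  have hg : Function.Surjective g := by
    rw [← LinearMap.range_eq_top, Fintype.range_linearCombination]
    simpa using hspan
  let K := FractionRing A
  let gK : (K ⊗[A] (s → A)) →ₗ[K] K ⊗[A] V := g.baseChange K
  have hgK : Function.Surjective gK := LinearMap.lTensor_surjective K hg
  have hd : Module.finrank K (K ⊗[A] (s → A)) = Module.finrank K (K ⊗[A] V) := by
    rw [← h, ← hs, Module.finrank_baseChange, Module.finrank_pi, Fintype.card_coe]
  have hinjK : Function.Injective gK :=
    (LinearMap.injective_iff_surjective_of_finrank_eq_finrank hd).2 hgK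
  have hinj : Function.Injective g := (injective_iff_map_eq_zero g).2 fun v hv => by
    have h1 : (1 : K) ⊗ₜ[A] v = 0 := hinjK (by
      show gK ((1 : K) ⊗ₜ[A] v) = gK 0
      rw [LinearMap.baseChange_tmul, hv, TensorProduct.tmul_zero, map_zero])
    have h2 := congrArg (TensorProduct.piScalarRight A A K s) h1
    rw [TensorProduct.piScalarRight_apply, TensorProduct.piScalarRightHom_tmul, map_zero] at h2
    funext j
    have h3 : algebraMap A K (v j) = 0 := by
      simpa [Algebra.smul_def] using congrFun h2 j
    exact (map_eq_zero_iff _ (IsFractionRing.injective A K)).1 h3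
  exact Module.Flat.of_linearEquiv (LinearEquiv.ofBijective g ⟨hinj, hg⟩).symm

/-- Equal Euler characteristics of high twists on the closed and the generic fibre give flatness. -/
theorem isFlatOver_of_eulerChar_eq [IsNoetherianRing A] [IsLocalRing A] [IsDomain A]
    [IsProper π] {L : X.Modules} (hL : CohB1.IsAmple L) {F : X.Modules} (hF : Coh.IsCoh F) (N₀ : ℕ)
    (h : ∀ n, N₀ ≤ n → PerfAux.eulerChar π (CohB1.tensorMod F (CohB1.tensorPow L n)) (⊥ : PrimeSpectrum A) =
      PerfAux.eulerChar π (CohB1.tensorMod F (CohB1.tensorPow L n)) (IsLocalRing.closedPoint A)) :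
    FlatMod.IsFlatOver π F := by
  haveI : IsLocallyNoetherian X := LocallyOfFiniteType.isLocallyNoetherian π
  haveI : CompactSpace X := AmpleVan.compactSpace_of_proper (A := A)
  haveI := AmpleVan.isSeparated_of_proper (X := X) (A := A)
  have hLi := (AmpleX.isAmple_iff.1 hL).1
  obtain ⟨q, sq⟩ := AmpleVan.exists_isPullback_fiber (A := A) X
  haveI : IsClosedImmersion (Spec.map (CommRingCat.ofHom (Ideal.Quotient.mk (IsLocalRing.maximalIdeal A)))) :=
    IsClosedImmersion.spec_of_surjective _ Ideal.Quotient.mk_surjective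
  haveI : IsClosedImmersion ((π).fiberι (IsLocalRing.closedPoint A)) :=
    MorphismProperty.of_isPullback sq.flip inferInstance
  haveI : CompactSpace ↥((π).fiber (IsLocalRing.closedPoint A)) :=
    QuasiCompact.compactSpace_of_compactSpace ((π).fiberι (IsLocalRing.closedPoint A))
  obtain ⟨N, hN⟩ := exists_eulerChar_eq (X := X) hLi
    (AmpleVan.isAmple_pullback_of_isEmbedding ((π).fiberι (IsLocalRing.closedPoint A))
      ((π).fiberι (IsLocalRing.closedPoint A)).isClosedEmbedding.isEmbedding hL) hF
  refine isFlatOver_of_flat_HH hL hF.1 (max N N₀) fun n hn => ?_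
  obtain ⟨h1, h2⟩ := hN n (le_of_max_le_left hn)
  haveI : Module.Finite A (Coh.HH X (CohB1.tensorMod F (CohB1.tensorPow L n)) 0) :=
    Groth.Agent.S0002.result A X _ (AmpleVan.isCoh_tensor hF
      (AmpleVan.isCoh_invertible (InvX.isInvertible_tensorPow hLi n))) 0
  exact flat_of_spanFinrank_eq (Int.ofNat_inj.1 (h1.symm.trans ((h n (le_of_max_le_right hn)).symm.trans h2)))

end Groth.Agent.HilbSnap

end
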