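import Groth.Agent.FibAmple.Local
import Groth.Agent.QCoh.PushLin
import Groth.Agent.ExistEasy.Setup

/-!
# Sections of high twists modulo an ideal of the base
-/

set_option autoImplicit false
set_option linter.style.haveILetI false
set_option linter.unusedSectionVars false
set_option backward.isDefEq.respectTransparency false
set_option backward.isDefEq.respectTransparency.types false
set_option maxHeartbeats 1000000
set_option synthInstance.maxHeartbeats 400000

universe u

open CategoryTheory CategoryTheory.Limits AlgebraicGeometry TopologicalSpace Opposite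
open Groth.Agent.PnCoh.Finite (mapLin deltaLin exists_of_deltaLin_eq_zero)

noncomputable section

namespace Groth.Agent.HilbSnap

open Groth.Agent Groth.Agent.AmpleVan

variable {A : Type u} [CommRing A] {X : Scheme.{u}} [X.Over (Spec (CommRingCat.of A))]

theorem mapLin_sum {M N : X.Modules} {ι : Type*} (s : Finset ι) (φ : ι → (M ⟶ N)) (p : ℕ) (x : Coh.HH X M p) :
    mapLin A (∑ j ∈ s, φ j) p x = ∑ j ∈ s, mapLin A (φ j) p x := by
  classical
  induction s using Finset.induction with
  | empty =>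
    rw [Finset.sum_empty, Finset.sum_empty]
    show Sheaf.H.map ((QCoh.toAbFunctor X).map 0) p x = 0
    rw [Functor.map_zero]
    show ((Sheaf.functorH _ p).map 0).hom x = 0
    rw [Functor.map_zero]
    rfl
  | insert a s ha ih =>
    rw [Finset.sum_insert ha, Finset.sum_insert ha, ← ih]
    show Sheaf.H.map ((QCoh.toAbFunctor X).map (φ a + _)) p x = _
    rw [Functor.map_add, Sheaf.H.map_add_apply]
    rfl

theorem H_exact_mid {Y : TopCat.{u}} {T : ShortComplex (CohTop.Ab Y)} (hT : T.ShortExact) (n : ℕ)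
    (x : CohTop.H T.X₂ n) (h : Sheaf.H.map T.g n x = 0) : ∃ y, Sheaf.H.map T.f n y = x :=
  CategoryTheory.Abelian.Ext.covariant_sequence_exact₂ _ hT x h

theorem mapLin_exact_mid {S : ShortComplex X.Modules} (hS : S.ShortExact) (n : ℕ) (x : Coh.HH X S.X₂ n)
    (h : mapLin A S.g n x = 0) : ∃ y, mapLin A S.f n y = x :=
  H_exact_mid (Y := X.toPresheafedSpace.carrier) (T := S.map (QCoh.toAbFunctor X)) (QCoh.toAb_shortExact hS) n x h

/-- For high twists, sections on the reduction modulo `J` are the sections modulo `J`. -/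
theorem exists_high_fibre [IsNoetherianRing A] [IsProper (X ↘ Spec (CommRingCat.of A))] {J : Ideal A}
    {Z : Scheme.{u}} {i : Z ⟶ X} {q : Z ⟶ Spec (CommRingCat.of (A ⧸ J))}
    (sq : IsPullback i q (X ↘ Spec (CommRingCat.of A)) (Spec.map (CommRingCat.ofHom (Ideal.Quotient.mk J))))
    {L : X.Modules} (hL : PicF.IsInvertible L)
    (hvan : ∀ C : X.Modules, Coh.IsCoh C → ∃ N, ∀ n, N ≤ n → ∀ p,
      Subsingleton (Coh.HH X (CohB1.tensorMod C (CohB1.tensorPow L n)) (p + 1)))
    {M : X.Modules} (hM : Coh.IsCoh M) :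
    ∃ N, ∀ n, N ≤ n →
      (∀ p, Subsingleton (Coh.HH X (CohB1.tensorMod M (CohB1.tensorPow L n)) (p + 1))) ∧
      (∀ p, Subsingleton (Coh.HH Z ((Scheme.Modules.pullback i).obj (CohB1.tensorMod M (CohB1.tensorPow L n))) (p + 1))) ∧
      (letI := QCoh.modHH (i.appTop.hom.comp (Coh.toGlobal (X ↘ Spec (CommRingCat.of A))))
          ((Scheme.Modules.pullback i).obj (CohB1.tensorMod M (CohB1.tensorPow L n))) 0
       ∃ g : Coh.HH X (CohB1.tensorMod M (CohB1.tensorPow L n)) 0 →ₗ[A]
          Coh.HH Z ((Scheme.Modules.pullback i).obj (CohB1.tensorMod M (CohB1.tensorPow L n))) 0,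
        Function.Surjective g ∧
          LinearMap.ker g = J • (⊤ : Submodule A (Coh.HH X (CohB1.tensorMod M (CohB1.tensorPow L n)) 0))) := by
  classical
  haveI : IsLocallyNoetherian X := LocallyOfFiniteType.isLocallyNoetherian (X ↘ Spec (CommRingCat.of A))
  haveI : CompactSpace X := QuasiCompact.compactSpace_of_compactSpace (X ↘ Spec (CommRingCat.of A))
  haveI : IsNoetherian X := { __ := ‹IsLocallyNoetherian X›, __ := ‹CompactSpace X› }
  haveI := Abelian.hasFiniteBiproducts (C := X.Modules)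
  haveI : IsClosedImmersion (Spec.map (CommRingCat.ofHom (Ideal.Quotient.mk J))) :=
    IsClosedImmersion.spec_of_surjective _ Ideal.Quotient.mk_surjective
  haveI : IsClosedImmersion i := MorphismProperty.of_isPullback sq.flip inferInstance
  obtain ⟨r, a, hJ⟩ := Submodule.fg_iff_exists_fin_generating_family.1 (IsNoetherian.noetherian J)
  let ι := ULift.{u} (Fin r)
  let b : ι → A := fun j => a j.down
  have hb : ∀ j, b j ∈ J := fun j => hJ ▸ Submodule.subset_span ⟨j.down, rfl⟩
  let φ : (⨁ fun _ : ι => M) ⟶ M := biproduct.desc fun j => Formal.smulMod A M (b j)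
  let P := cokernel φ
  let I := kernel (cokernel.π φ)
  let e : (⨁ fun _ : ι => M) ⟶ I := Abelian.factorThruImage φ
  let K := kernel e
  have hB : Coh.IsCoh (⨁ fun _ : ι => M) := QCoh.isCoh_biproduct _ fun _ => hM
  have hP : Coh.IsCoh P := QCoh.isCoh_cokernel hB.1 hM _
  have hI : Coh.IsCoh I := QCoh.isCoh_of_mono (kernel.ι _) hM (QCoh.isQCoh_kernel hM.1 hP.1 _)
  have hK : Coh.IsCoh K := QCoh.isCoh_of_mono (kernel.ι _) hB (QCoh.isQCoh_kernel hB.1 hI.1 _)
  have hs1 : (ShortComplex.mk (kernel.ι e) e (kernel.condition e)).ShortExact :=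
    { exact := ShortComplex.exact_of_f_is_kernel _ (kernelIsKernel e) }
  have hs2 : (ShortComplex.mk (kernel.ι (cokernel.π φ)) (cokernel.π φ) (kernel.condition _)).ShortExact :=
    { exact := ShortComplex.exact_of_f_is_kernel _ (kernelIsKernel _) }
  obtain ⟨N₁, h₁⟩ := hvan K hK
  obtain ⟨N₂, h₂⟩ := hvan I hI
  obtain ⟨N₃, h₃⟩ := hvan P hP
  obtain ⟨N₄, h₄⟩ := hvan M hM
  refine ⟨N₁ + N₂ + N₃ + N₄, fun n hn => ⟨fun p => h₄ n (by omega) p, ?_⟩⟩
  let Q := CohB1.tensorPow L n
  have hQ : PicF.IsInvertible Q := InvX.isInvertible_tensorPow hL n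
  let T := tw Q
  haveI : T.IsEquivalence := isEquivalence_tw hQ
  haveI : T.Additive := Functor.additive_of_preserves_binary_products _
  have ht1 := hs1.map_of_exact T
  have ht2 := hs2.map_of_exact T
  have hsm : ∀ (M' : X.Modules) (c : A), T.map (Formal.smulMod A M' c) = Formal.smulMod A (T.obj M') c :=
    fun M' c => SheafHomX.ten_map_smulMod Q M' c
  -- `T P` is the reduction of `T M` modulo `J`
  have hbπ : ∀ j, Formal.smulMod A M (b j) ≫ cokernel.π φ = 0 := fun j => by
    have h : Formal.smulMod A M (b j) = biproduct.ι (fun _ : ι => M) j ≫ φ := by simp [φ]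
    rw [h, Category.assoc, cokernel.condition, comp_zero]
  have hkill : J ≤ FFun.killIdeal (A := A) (T.obj P) := by
    rw [← hJ, Submodule.span_le]
    rintro _ ⟨j, rfl⟩
    show Formal.smulMod A (T.obj P) (a j) = 0
    have h0 : Formal.smulMod A P (b ⟨j⟩) = 0 := by
      rw [← cancel_epi (cokernel.π φ), ← FFun.smulMod_naturality, hbπ, comp_zero]
    rw [← hsm P (a j), show Formal.smulMod A P (a j) = 0 from h0, Functor.map_zero]
  let β : FFun.modJ J (T.obj M) ⟶ T.obj P := FFun.descJ (T.map (cokernel.π φ)) hkill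
  have hα0 : T.map (kernel.ι (cokernel.π φ)) ≫ FFun.modJπ J (T.obj M) = 0 := by
    have he : e ≫ kernel.ι (cokernel.π φ) = φ := Abelian.image.fac φ
    rw [← cancel_epi (T.map e), ← Category.assoc, ← T.map_comp, he, comp_zero]
    have hφ : φ = ∑ j : ι, biproduct.π (fun _ : ι => M) j ≫ Formal.smulMod A M (b j) := by
      show biproduct.desc (fun j => Formal.smulMod A M (b j)) = _
      refine biproduct.hom_ext' _ _ fun k => ?_
      rw [biproduct.ι_desc, Preadditive.comp_sum, Finset.sum_eq_single k (fun j _ hj => by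
        rw [biproduct.ι_π_ne_assoc _ hj.symm, zero_comp]) (fun h => absurd (Finset.mem_univ k) h),
        biproduct.ι_π_self_assoc]
    rw [hφ, Functor.map_sum, Preadditive.sum_comp]
    refine Finset.sum_eq_zero fun j _ => ?_
    rw [T.map_comp, hsm, Category.assoc, FFun.smulMod_naturality,
      FFun.mem_killIdeal.1 (FFun.le_killIdeal_modJ J (T.obj M) (hb j)), comp_zero, comp_zero]
  haveI : Epi (T.map (cokernel.π φ)) := ht2.epi_g
  haveI := ht2.epi_g
  let α : T.obj P ⟶ FFun.modJ J (T.obj M) := ht2.exact.desc (FFun.modJπ J (T.obj M)) hα0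
  have hα : T.map (cokernel.π φ) ≫ α = FFun.modJπ J (T.obj M) := ht2.exact.g_desc _ hα0
  have hαβ : α ≫ β = 𝟙 _ := by
    rw [← cancel_epi (T.map (cokernel.π φ)), ← Category.assoc, hα, Category.comp_id]
    exact FFun.π_descJ _ _
  have hβα : β ≫ α = 𝟙 _ := by
    rw [← cancel_epi (FFun.modJπ J (T.obj M)), ← Category.assoc,
      show FFun.modJπ J (T.obj M) ≫ β = T.map (cokernel.π φ) from FFun.π_descJ _ _, hα, Category.comp_id]
  obtain ⟨h0, hiso⟩ := unit_desc_iso sq (M := T.obj M) (isCoh_tensor hM (isCoh_invertible hQ)).1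
  haveI := hiso
  let η := (Scheme.Modules.pullbackPushforwardAdjunction i).unit.app (T.obj M)
  let γ : T.obj P ≅ (Scheme.Modules.pushforward i).obj ((Scheme.Modules.pullback i).obj (T.obj M)) :=
    ⟨α, β, hαβ, hβα⟩ ≪≫ asIso (cokernel.desc (Formal.smulFamily J (T.obj M)) η h0)
  have hγ : T.map (cokernel.π φ) ≫ γ.hom = η := by
    show T.map (cokernel.π φ) ≫ α ≫ cokernel.desc _ η h0 = η
    rw [← Category.assoc, hα]
    exact cokernel.π_desc _ _ _
  have hq : Coh.IsQCoh ((Scheme.Modules.pullback i).obj (T.obj M)) :=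
    QCoh.isQCoh_pullback _ (isCoh_tensor hM (isCoh_invertible hQ)).1
  refine ⟨fun p => ?_, ?_⟩
  · obtain ⟨E⟩ := QCoh.HH_push_of_isAffineHom i hq (p + 1)
    haveI : Subsingleton (Coh.HH X (T.obj P) (p + 1)) := h₃ n (by omega) p
    haveI := QCoh.subsingleton_HH_of_iso γ (p + 1) inferInstance
    exact E.toEquiv.subsingleton
  let ρ' : A →+* Coh.Γtop Z := i.appTop.hom.comp (Coh.toGlobal (X ↘ Spec (CommRingCat.of A)))
  letI := QCoh.modHH ρ' ((Scheme.Modules.pullback i).obj (T.obj M)) 0
  obtain ⟨E⟩ := QCoh.HH_push_linear i (Coh.toGlobal (X ↘ Spec (CommRingCat.of A))) ρ' (fun _ => rfl) hq 0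
  refine ⟨E.symm.toLinearMap.comp (mapLin A η 0), ?_, ?_⟩
  · have hδ : Subsingleton (Coh.HH X (T.obj I) 1) := h₂ n (by omega) 0
    refine E.symm.surjective.comp fun y => ?_
    obtain ⟨x, hx⟩ := exists_of_deltaLin_eq_zero A ht2 0 (x := mapLin A γ.inv 0 y) (hδ.elim _ _)
    refine ⟨x, ?_⟩
    refine (FFun.mapLin_congr hγ.symm 0 x).trans ((FFun.mapLin_comp (T.map (cokernel.π φ)) γ.hom 0 x).symm.trans ?_)
    refine (congrArg (mapLin A γ.hom 0) hx).trans ?_
    rw [FFun.mapLin_comp, FFun.mapLin_congr γ.inv_hom_id]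
    show Sheaf.H.map ((QCoh.toAbFunctor X).map (𝟙 _)) 0 y = y
    rw [CategoryTheory.Functor.map_id, Sheaf.H.map_id_apply]
  rw [LinearEquiv.ker_comp]
  refine le_antisymm (fun x hx => ?_) (Submodule.smul_le.2 fun c hc x _ => ?_)
  · have hx0 : mapLin A (T.map (cokernel.π φ)) 0 x = 0 := by
      have : T.map (cokernel.π φ) = η ≫ γ.inv := by rw [← hγ, Category.assoc, γ.hom_inv_id, Category.comp_id]
      refine (FFun.mapLin_congr this 0 x).trans ((FFun.mapLin_comp η γ.inv 0 x).symm.trans ?_)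
      exact (congrArg (mapLin A γ.inv 0) (LinearMap.mem_ker.1 hx)).trans (map_zero _)
    obtain ⟨y, hy⟩ : ∃ y, mapLin A (T.map (kernel.ι (cokernel.π φ))) 0 y = x := by
      exact mapLin_exact_mid ht2 0 x hx0
    have hδ : Subsingleton (Coh.HH X (T.obj K) 1) := h₁ n (by omega) 0
    obtain ⟨w, hw⟩ := exists_of_deltaLin_eq_zero A ht1 0 (x := y) (hδ.elim _ _)
    have he : e ≫ kernel.ι (cokernel.π φ) = φ := Abelian.image.fac φ
    have hxw : mapLin A (T.map φ) 0 w = x := by
      rw [← hy, ← hw]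
      exact ((FFun.mapLin_congr ((congrArg T.map he.symm).trans (T.map_comp _ _)) 0 w).trans
        (FFun.mapLin_comp _ _ 0 w).symm)
    have hφ : φ = ∑ j : ι, biproduct.π (fun _ : ι => M) j ≫ Formal.smulMod A M (b j) := by
      show biproduct.desc (fun j => Formal.smulMod A M (b j)) = _
      refine biproduct.hom_ext' _ _ fun k => ?_
      rw [biproduct.ι_desc, Preadditive.comp_sum, Finset.sum_eq_single k (fun j _ hj => by
        rw [biproduct.ι_π_ne_assoc _ hj.symm, zero_comp]) (fun h => absurd (Finset.mem_univ k) h),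
        biproduct.ι_π_self_assoc]
    rw [← hxw, hφ, FFun.mapLin_congr (T.map_sum _ _), mapLin_sum]
    refine Submodule.sum_mem _ fun j _ => ?_
    rw [FFun.mapLin_congr (T.map_comp _ _), ← FFun.mapLin_comp, FFun.mapLin_congr (hsm M (b j)), FFun.mapLin_smulMod]
    exact Submodule.smul_mem_smul (hb j) trivial
  · rw [LinearMap.mem_ker, map_smul]
    refine (congrArg (c • ·) ((FFun.mapLin_congr hγ.symm 0 x).trans
      (FFun.mapLin_comp (T.map (cokernel.π φ)) γ.hom 0 x).symm)).trans ?_
    refine (map_smul (mapLin A γ.hom 0) c _).symm.trans ?_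
    exact (congrArg (mapLin A γ.hom 0) (FFun.smul_HH_eq_zero (hkill hc) 0 _)).trans (map_zero _)

end Groth.Agent.HilbSnap

end
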