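import Groth.Agent.HilbSnap.FlatCrit
import Groth.Agent.FlatProper.Stage
import Groth.Agent.S6295
import Groth.Agent.HilbSnap.GeClosed
import Groth.Agent.S4381
import Groth.Agent.S2332
import Groth.Agent.GrpSchLib.FieldSmooth

/-!
# Flatness over a reduced base from the constancy of the Hilbert polynomial
-/

set_option autoImplicit false
set_option linter.style.haveILetI false
set_option linter.unusedSectionVars false
set_option backward.isDefEq.respectTransparency false
set_option backward.isDefEq.respectTransparency.types false
set_option maxHeartbeats 1000000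
set_option synthInstance.maxHeartbeats 400000

universe u

open CategoryTheory CategoryTheory.Limits AlgebraicGeometry TopologicalSpace
open scoped TensorProduct

noncomputable section

namespace Groth.Agent.HilbSnap

open Groth.Agent

section Local

variable {A : Type u} [CommRing A] {X : Scheme.{u}} [X.Over (Spec (CommRingCat.of A))]

local notation "π" => (X ↘ Spec (CommRingCat.of A))

/-- At a minimal prime of a reduced ring the residue map is flat. -/
theorem flat_resHom_of_minimal [_root_.IsReduced A] {p : Spec (CommRingCat.of A)} (hp : p.asIdeal ∈ minimalPrimes A) :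
    (resHom p).Flat := by
  letI := ((S6295.result A).1 p hp).toField
  have h1 : (algebraMap A (Localization.AtPrime p.asIdeal)).Flat :=
    (inferInstance : Module.Flat A (Localization.AtPrime p.asIdeal)) |> fun h => RingHom.flat_algebraMap_iff.2 h
  have h2 : (algebraMap (Localization.AtPrime p.asIdeal) p.asIdeal.ResidueField).Flat :=
    RingHom.Flat.of_bijective ⟨RingHom.injective _, IsLocalRing.residue_surjective⟩
  have h3 : (Scheme.Spec.residueFieldIso (CommRingCat.of A) p).inv.hom.Flat :=
    RingHom.Flat.of_bijective (ConcreteCategory.bijective_of_isIso _)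
  have e : algebraMap A p.asIdeal.ResidueField =
      (algebraMap (Localization.AtPrime p.asIdeal) p.asIdeal.ResidueField).comp (algebraMap A _) :=
    IsScalarTower.algebraMap_eq A (Localization.AtPrime p.asIdeal) p.asIdeal.ResidueField
  show ((Scheme.Spec.residueFieldIso (CommRingCat.of A) p).inv.hom.comp (algebraMap A p.asIdeal.ResidueField)).Flat
  rw [e]
  exact (h1.comp h2).comp h3

/-- Over a reduced local ring, a finite module whose fibre dimensions at the minimal primes equal the
number of its generators is flat. -/
theorem flat_of_minimal {V : Type u} [AddCommGroup V] [Module A V] [Module.Finite A V] [_root_.IsReduced A]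
    (h : ∀ p : Spec (CommRingCat.of A), p.asIdeal ∈ minimalPrimes A → letI := (resHom p).toAlgebra
      (⊤ : Submodule A V).spanFinrank = Module.finrank ((Spec (CommRingCat.of A)).residueField p)
        (((Spec (CommRingCat.of A)).residueField p : Type u) ⊗[A] V)) :
    Module.Flat A V := by
  classical
  obtain ⟨s, hs, hspan⟩ := (Module.Finite.fg_top (R := A) (M := V)).exists_span_finset_card_eq_spanFinrank
  let g : (s → A) →ₗ[A] V := Fintype.linearCombination A (fun i : s => (i : V))
  have hg : Function.Surjective g := by
    rw [← LinearMap.range_eq_top, Fintype.range_linearCombination]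
    simpa using hspan
  have hinj : Function.Injective g := (injective_iff_map_eq_zero g).2 fun v hv => funext fun j => by
    have hnil : v j ∈ nilradical A := by
      rw [show nilradical A = (⊥ : Ideal A).radical from rfl, ← Ideal.sInf_minimalPrimes]
      refine Submodule.mem_sInf.2 fun P hP => ?_
      haveI := hP.1.1
      haveI : Nontrivial A := ⟨⟨1, 0, fun h10 => hP.1.1.ne_top ((Ideal.eq_top_iff_one P).2 (h10 ▸ P.zero_mem))⟩⟩
      let p : Spec (CommRingCat.of A) := ⟨P, hP.1.1⟩
      letI := (resHom p).toAlgebra
      let K := ((Spec (CommRingCat.of A)).residueField p : Type u)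
      let gK : (K ⊗[A] (s → A)) →ₗ[K] K ⊗[A] V := g.baseChange K
      have hgK : Function.Surjective gK := LinearMap.lTensor_surjective K hg
      have hd : Module.finrank K (K ⊗[A] (s → A)) = Module.finrank K (K ⊗[A] V) := by
        rw [← h p hP, ← hs, Module.finrank_baseChange, Module.finrank_pi, Fintype.card_coe]
      have hinjK : Function.Injective gK :=
        (LinearMap.injective_iff_surjective_of_finrank_eq_finrank hd).2 hgK
      have h1 : (1 : K) ⊗ₜ[A] v = 0 := hinjK (by
        show gK ((1 : K) ⊗ₜ[A] v) = gK 0
        rw [LinearMap.baseChange_tmul, hv, TensorProduct.tmul_zero, map_zero])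
      have h2 := congrArg (TensorProduct.piScalarRight A A K s) h1
      rw [TensorProduct.piScalarRight_apply, TensorProduct.piScalarRightHom_tmul, map_zero] at h2
      have h3 : resHom p (v j) = 0 := by
        simpa [Algebra.smul_def, RingHom.algebraMap_toAlgebra] using congrFun h2 j
      exact Ideal.algebraMap_residueField_eq_zero.1
        ((map_eq_zero_iff _ (ConcreteCategory.bijective_of_isIso (Scheme.Spec.residueFieldIso (CommRingCat.of A) p).inv).1).1 h3)
    rw [nilradical_eq_zero] at hnil
    exact hnil
  exact Module.Flat.of_linearEquiv (LinearEquiv.ofBijective g ⟨hinj, hg⟩).symm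

/-- Over a reduced Noetherian local ring, equal Euler characteristics of high twists on the closed
fibre and on the fibres at the minimal primes give flatness. -/
theorem isFlatOver_of_eulerChar_minimal [IsNoetherianRing A] [IsLocalRing A] [_root_.IsReduced A]
    [IsProper π] {L : X.Modules} (hL : CohB1.IsAmple L) {F : X.Modules} (hF : Coh.IsCoh F)
    (h : ∀ n, ∀ p : Spec (CommRingCat.of A), p.asIdeal ∈ minimalPrimes A →
      PerfAux.eulerChar π (CohB1.tensorMod F (CohB1.tensorPow L n)) p =
      PerfAux.eulerChar π (CohB1.tensorMod F (CohB1.tensorPow L n)) (IsLocalRing.closedPoint A)) :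
    FlatMod.IsFlatOver π F := by
  haveI : IsLocallyNoetherian X := LocallyOfFiniteType.isLocallyNoetherian π
  haveI : CompactSpace X := AmpleVan.compactSpace_of_proper (A := A)
  haveI := AmpleVan.isSeparated_of_proper (X := X) (A := A)
  have hLi := (AmpleX.isAmple_iff.1 hL).1
  let c : Spec (CommRingCat.of A) := IsLocalRing.closedPoint A
  haveI : c.asIdeal.IsMaximal := IsLocalRing.maximalIdeal.isMaximal A
  obtain ⟨q, sq⟩ := AmpleVan.exists_isPullback_fiber (A := A) X
  haveI : IsClosedImmersion (Spec.map (CommRingCat.ofHom (Ideal.Quotient.mk (IsLocalRing.maximalIdeal A)))) :=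
    IsClosedImmersion.spec_of_surjective _ Ideal.Quotient.mk_surjective
  haveI : IsClosedImmersion ((π).fiberι (IsLocalRing.closedPoint A)) :=
    MorphismProperty.of_isPullback sq.flip inferInstance
  haveI : CompactSpace ↥((π).fiber (IsLocalRing.closedPoint A)) :=
    QuasiCompact.compactSpace_of_compactSpace ((π).fiberι (IsLocalRing.closedPoint A))
  have ha := AmpleVan.isAmple_pullback_of_isEmbedding ((π).fiberι (IsLocalRing.closedPoint A))
    ((π).fiberι (IsLocalRing.closedPoint A)).isClosedEmbedding.isEmbedding hL
  obtain ⟨N, hN⟩ := exists_high_fibre sq hLi (fun C hC => FibAmple.exists_vanishing sq hLi ha hC) hF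
  refine isFlatOver_of_flat_HH hL hF.1 N fun n hn => ?_
  let T := CohB1.tensorMod F (CohB1.tensorPow L n)
  have hTc : Coh.IsCoh T := AmpleVan.isCoh_tensor hF (AmpleVan.isCoh_invertible (InvX.isInvertible_tensorPow hLi n))
  haveI : Coh.IsQCoh T := hTc.1
  haveI : Module.Finite A (Coh.HH X T 0) := Groth.Agent.S0002.result A X T hTc 0
  obtain ⟨hX, hZ, g, hgs, hgk⟩ := hN n hn
  have hc : PerfAux.eulerChar π T c = ((⊤ : Submodule A (Coh.HH X T 0)).spanFinrank : ℤ) :=
    (eulerChar_eq_betti_zero π T c hZ).trans (congrArg Nat.cast
      (spanFinrank_eq_of_residue (V := Coh.HH X T 0) (W := PerfAux.fiberH π T c 0) (resHom c)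
        (surjective_resHom c) g.toAddMonoidHom hgs (fun a x => (g.map_smul a x).trans (fiberH_smul T c a 0 (g x)))
        fun x hx => hgk.le hx).symm)
  refine flat_of_minimal fun p hp => Int.ofNat_inj.1 ?_
  exact hc.symm.trans ((h n p hp).symm.trans (eulerChar_of_flat_point T p (flat_resHom_of_minimal hp) hX))

end Local

/-- Over a reduced locally Noetherian base, a locally constant Hilbert polynomial gives flatness. -/
theorem isFlatOver_of_locallyConstant {X S : Scheme.{u}} [IsLocallyNoetherian S] [AlgebraicGeometry.IsReduced S]
    (f : X ⟶ S) [IsProper f] {L : X.Modules} (hLi : PicF.IsInvertible L) (hL : RelAmple.IsRelAmple f L)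
    {F : X.Modules} (hF : Coh.IsCoh F)
    (h : ∀ s : S, ∃ U : S.Opens, s ∈ U ∧ ∀ s' ∈ U, ∀ n : ℕ,
      PerfAux.eulerChar f (CohB1.tensorMod F (CohB1.tensorPow L n)) s' =
        PerfAux.eulerChar f (CohB1.tensorMod F (CohB1.tensorPow L n)) s) :
    FlatMod.IsFlatOver f F := fun x => by
  let s := f x
  let A : Type u := S.presheaf.stalk s
  haveI : IsNoetherianRing A := inferInstanceAs (IsNoetherianRing (S.presheaf.stalk s))
  haveI : _root_.IsReduced A := inferInstanceAs (_root_.IsReduced (S.presheaf.stalk s))
  haveI : IsLocalRing A := inferInstanceAs (IsLocalRing (S.presheaf.stalk s))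
  let j : Spec (CommRingCat.of A) ⟶ S := S.fromSpecStalk s
  let f' := pullback.snd f j
  letI : (pullback f j).Over (Spec (CommRingCat.of A)) := ⟨f'⟩
  haveI : IsProper (pullback f j ↘ Spec (CommRingCat.of A)) := inferInstanceAs (IsProper (pullback.snd f j))
  haveI : IsLocallyNoetherian (pullback f j) :=
    LocallyOfFiniteType.isLocallyNoetherian (pullback f j ↘ Spec (CommRingCat.of A))
  have hamp : CohB1.IsAmple ((Scheme.Modules.pullback (pullback.fst f j)).obj L) :=
    (S4381.result f' _).1 (S2332.result f j L hL)
  have sq := IsPullback.of_hasPullback f j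
  have hflat := isFlatOver_of_eulerChar_minimal (A := A) (X := pullback f j) hamp
    (ZClosLib.isCoh_pullback (pullback.fst f j) hF) fun n p _ => by
      refine (eulerChar_twist_bc sq hF.1 hLi n p).trans
        (Eq.trans ?_ (eulerChar_twist_bc sq hF.1 hLi n (IsLocalRing.closedPoint A)).symm)
      obtain ⟨U, hsU, hU⟩ := h s
      have hjc : j (IsLocalRing.closedPoint A) = s := Scheme.fromSpecStalk_closedPoint
      have hjp : j p ∈ U := ((IsLocalRing.specializes_closedPoint p).map j.continuous).mem_open U.isOpen
        (by rw [hjc]; exact hsU)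
      exact (hU _ hjp n).trans (congrArg (fun t => PerfAux.eulerChar f (CohB1.tensorMod F (CohB1.tensorPow L n)) t) hjc.symm)
  obtain ⟨z, hz1, -⟩ := Scheme.Pullback.exists_preimage_pullback (f := f) (g := j) x (IsLocalRing.closedPoint A)
    (show f x = j (IsLocalRing.closedPoint A) from Scheme.fromSpecStalk_closedPoint.symm)
  haveI : Flat j := GrpSchLib.flat_fromSpecStalk s
  haveI : IsPreimmersion j := inferInstanceAs (IsPreimmersion (S.fromSpecStalk s))
  rw [← hz1]
  exact (FlatProper.flatAt_flatPreimmersion (jX := pullback.fst f j) (jY := j) (f' := f')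
    pullback.condition.symm F z).1 (hflat z)

end Groth.Agent.HilbSnap

end
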